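import Mathlib
import Cfsg.Prelude.Def_CaseTheorems
import Cfsg.Prelude.Def_Exceptional
import Cfsg.Prelude.Def_Sporadic
import Cfsg.Agent.S0243
import Cfsg.Agent.S0252
import Cfsg.Agent.S0253
import Cfsg.Agent.S0812
import Cfsg.Agent.ClassicalGeometry.PSLTorus

/-!
# Groups in which the `p'`-subgroups are abelian of exponent dividing `p - 1`

`PP p G`: every `p'`-subgroup of `G` is abelian of exponent dividing `p - 1`.  Such a finite group is solvable, given the
lists of the minimal simple groups and of the simple groups with abelian Sylow 2-subgroups.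
-/

set_option autoImplicit false

namespace Cfsg.Agent.H26.SolvPPrime

open Subgroup Cfsg

universe u v

/-- Every `p'`-subgroup of `G` is abelian of exponent dividing `p - 1`. -/
def PP (p : ℕ) (G : Type*) [Group G] : Prop :=
  ∀ H : Subgroup G, (Nat.card H).Coprime p → (∀ x ∈ H, ∀ y ∈ H, x * y = y * x) ∧ ∀ x ∈ H, x ^ (p - 1) = 1

section Basic

variable {p : ℕ} {G : Type u} [Group G]

theorem PP.of_injective {H : Type v} [Group H] (h : PP p G) (f : H →* G) (hf : Function.Injective f) : PP p H := by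
  intro K hK
  have hc : Nat.card (K.map f) = Nat.card K :=
    Nat.card_congr (K.equivMapOfInjective f hf).symm.toEquiv
  obtain ⟨h1, h2⟩ := h (K.map f) (by rw [hc]; exact hK)
  refine ⟨fun x hx y hy => hf ?_, fun x hx => hf ?_⟩
  · rw [map_mul, map_mul]
    exact h1 _ ⟨x, hx, rfl⟩ _ ⟨y, hy, rfl⟩
  · rw [map_pow, map_one]
    exact h2 _ ⟨x, hx, rfl⟩

theorem PP.subgroup (h : PP p G) (H : Subgroup G) : PP p H := h.of_injective H.subtype H.subtype_injective

theorem PP.of_equiv {H : Type v} [Group H] (h : PP p G) (e : G ≃* H) : PP p H :=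
  h.of_injective e.symm.toMonoidHom e.symm.injective

/-- Lifting `p'`-subgroups modulo a normal `r`-subgroup. -/
theorem exists_lift [Finite G] [hpf : Fact p.Prime] {r : ℕ} (hr : r.Prime) (N : Subgroup G)
    [hN : N.Normal] (hNr : IsPGroup r N) (H : Subgroup (G ⧸ N)) (hH : (Nat.card H).Coprime p) :
    ∃ K : Subgroup G, (Nat.card K).Coprime p ∧ ∀ y ∈ H, ∃ x ∈ K, QuotientGroup.mk' N x = y := by
  set π := QuotientGroup.mk' N with hπ
  have hπs : Function.Surjective π := QuotientGroup.mk'_surjective N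
  have hker : π.ker = N := QuotientGroup.ker_mk' N
  by_cases hrp : r = p
  · subst hrp
    let K₀ := H.comap π
    let f : K₀ →* H := π.subgroupComap H
    have hf : Function.Surjective f := by
      rintro ⟨y, hy⟩
      obtain ⟨x, rfl⟩ := hπs y
      exact ⟨⟨x, hy⟩, rfl⟩
    have hkf : ∀ x : K₀, x ∈ f.ker ↔ (x : G) ∈ N := by
      intro x
      have h1 : (x : G) ∈ N ↔ π x = 1 := (QuotientGroup.eq_one_iff (x : G)).symm
      rw [MonoidHom.mem_ker, h1]
      constructor
      · intro h; exact congrArg Subtype.val h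
      · intro h; exact Subtype.ext h
    have hkp : IsPGroup r f.ker := by
      have h1 : f.ker ≤ N.subgroupOf K₀ := fun x hx => (hkf x).1 hx
      exact (hNr.comap_of_injective K₀.subtype K₀.subtype_injective).to_le h1
    have hidx : f.ker.index = Nat.card H := by
      rw [Subgroup.index_ker, MonoidHom.range_eq_top.2 hf, Subgroup.card_top]
    have hcop : (Nat.card f.ker).Coprime f.ker.index := by
      obtain ⟨n, hn⟩ := IsPGroup.iff_card.1 hkp
      rw [hn, hidx]
      exact (Nat.Coprime.pow_right n hH).symm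
    obtain ⟨C, hC⟩ := Subgroup.exists_right_complement'_of_coprime hcop
    refine ⟨C.map K₀.subtype, ?_, ?_⟩
    · have h1 : Nat.card (C.map K₀.subtype) = Nat.card C :=
        Nat.card_congr (C.equivMapOfInjective _ K₀.subtype_injective).symm.toEquiv
      have h2 : Nat.card f.ker * Nat.card C = Nat.card K₀ := hC.card_mul_card
      have h3 : Nat.card f.ker * f.ker.index = Nat.card K₀ := Subgroup.card_mul_index _
      rw [← h3] at h2
      have h4 : Nat.card C = f.ker.index := Nat.eq_of_mul_eq_mul_left Nat.card_pos h2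
      rw [h1, h4, hidx]
      exact hH
    · intro y hy
      obtain ⟨k, hk⟩ := hf ⟨y, hy⟩
      have h1 : k ∈ f.ker ⊔ C := by rw [hC.sup_eq_top]; trivial
      obtain ⟨n, hn, c, hc, hnc⟩ := Subgroup.mem_sup_of_normal_left.1 h1
      refine ⟨c, ⟨c, hc, rfl⟩, ?_⟩
      have h2 : f c = f k := by
        rw [← hnc, map_mul, MonoidHom.mem_ker.1 hn, one_mul]
      have h3 := congrArg Subtype.val (h2.trans hk)
      exact h3
  · refine ⟨H.comap π, ?_, ?_⟩
    · rw [Nat.coprime_comm, Nat.Prime.coprime_iff_not_dvd hpf.out]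
      intro hd
      obtain ⟨⟨x, hx⟩, hxo⟩ := exists_prime_orderOf_dvd_card' p hd
      rw [Subgroup.orderOf_mk] at hxo
      have h1 : π x = 1 := by
        have h2 : orderOf (π x) ∣ p := by rw [← hxo]; exact orderOf_map_dvd π x
        have h3 : orderOf (π x) ∣ Nat.card H := by
          rw [← Subgroup.orderOf_mk (π x) hx]; exact orderOf_dvd_natCard _
        have h4 : orderOf (π x) ∣ 1 := by
          have := Nat.dvd_gcd h3 h2
          rwa [Nat.Coprime.gcd_eq_one hH] at this
        rw [← orderOf_eq_one_iff]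
        exact Nat.dvd_one.1 h4
      have h5 : x ∈ N := by rw [← hker]; exact h1
      have hrf : Fact r.Prime := ⟨hr⟩
      obtain ⟨n, hn⟩ := IsPGroup.iff_card.1 hNr
      have h6 : p ∣ Nat.card N := by
        rw [← hxo, ← Subgroup.orderOf_mk x h5]; exact orderOf_dvd_natCard _
      rw [hn] at h6
      exact hrp ((Nat.prime_dvd_prime_iff_eq hpf.out hr).1 (hpf.out.dvd_of_dvd_pow h6)).symm
    · intro y hy
      obtain ⟨x, rfl⟩ := hπs y
      exact ⟨x, hy, rfl⟩

/-- Quotient by a normal `r`-subgroup. -/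
theorem PP.quotient [Finite G] [hpf : Fact p.Prime] (h : PP p G) {r : ℕ} (hr : r.Prime) (N : Subgroup G)
    [hN : N.Normal] (hNr : IsPGroup r N) : PP p (G ⧸ N) := by
  intro H hH
  obtain ⟨K, hK, hKH⟩ := exists_lift hr N hNr H hH
  obtain ⟨h1, h2⟩ := h K hK
  refine ⟨fun x hx y hy => ?_, fun x hx => ?_⟩
  · obtain ⟨x, hx', rfl⟩ := hKH x hx
    obtain ⟨y, hy', rfl⟩ := hKH y hy
    rw [← map_mul, ← map_mul, h1 x hx' y hy']
  · obtain ⟨x, hx', rfl⟩ := hKH x hx
    rw [← map_pow, h2 x hx', map_one]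

/-- A nontrivial solvable normal subgroup contains a nontrivial normal `r`-subgroup of the group. -/
theorem exists_normal_pgroup [Finite G] {N : Subgroup G} (hN : N.Normal) (hN1 : N ≠ ⊥)
    (hs : Group.IsSolvable N) : ∃ (r : ℕ) (A : Subgroup G), r.Prime ∧ A.Normal ∧ IsPGroup r A ∧ A ≠ ⊥ := by
  classical
  obtain ⟨n, hn⟩ := hs.solvable
  have hex : ∃ n, derivedSeries N n = ⊥ := ⟨n, hn⟩
  set m := Nat.find hex with hm
  have hm0 : m ≠ 0 := by
    intro h0
    have h1 := Nat.find_spec hex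
    rw [← hm, h0, derivedSeries_zero] at h1
    apply hN1
    rw [eq_bot_iff]
    intro x hx
    have : (⟨x, hx⟩ : N) ∈ (⊤ : Subgroup N) := trivial
    rw [h1, mem_bot] at this
    exact congrArg Subtype.val this
  obtain ⟨k, hk⟩ := Nat.exists_eq_succ_of_ne_zero hm0
  have hD1 : derivedSeries N k ≠ ⊥ := Nat.find_min hex (by omega)
  have hD2 : ⁅derivedSeries N k, derivedSeries N k⁆ = ⊥ := by
    have h1 := Nat.find_spec hex
    rw [← hm, hk] at h1
    exact h1
  set D := derivedSeries N k with hD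
  have hcomm : ∀ x ∈ D, ∀ y ∈ D, x * y = y * x := by
    intro x hx y hy
    have h1 := commutator_mem_commutator hx hy
    rw [hD2, mem_bot, commutatorElement_eq_one_iff_mul_comm] at h1
    exact h1
  -- a prime divisor
  have hcard : Nat.card D ≠ 1 := by
    intro h; exact hD1 (Subgroup.card_eq_one.1 h)
  obtain ⟨r, hr, hrd⟩ := Nat.exists_prime_and_dvd hcard
  have hfr : Fact r.Prime := ⟨hr⟩
  have hDchar : D.Characteristic := by rw [hD]; infer_instance
  have hDmap : (D.map N.subtype).Normal := ConjAct.normal_of_characteristic_of_normal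
  let A : Subgroup G :=
    { carrier := {x | x ∈ D.map N.subtype ∧ x ^ r = 1}
      mul_mem' := by
        rintro x y ⟨⟨x', hx', rfl⟩, hx2⟩ ⟨⟨y', hy', rfl⟩, hy2⟩
        refine ⟨mul_mem ⟨x', hx', rfl⟩ ⟨y', hy', rfl⟩, ?_⟩
        have hc : Commute (N.subtype x') (N.subtype y') := congrArg Subtype.val (hcomm x' hx' y' hy')
        rw [hc.mul_pow, hx2, hy2, mul_one]
      one_mem' := ⟨one_mem _, one_pow r⟩
      inv_mem' := by
        rintro x ⟨hx, hx2⟩
        exact ⟨inv_mem hx, by rw [inv_pow, hx2, inv_one]⟩ }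
  refine ⟨r, A, hr, ?_, ?_, ?_⟩
  · constructor
    rintro x ⟨hx, hx2⟩ g
    exact ⟨hDmap.conj_mem x hx g, by rw [conj_pow, hx2, mul_one, mul_inv_cancel]⟩
  · rintro ⟨x, hx, hx2⟩
    exact ⟨1, by rw [pow_one]; exact Subtype.ext hx2⟩
  · intro hA
    obtain ⟨⟨x, hx⟩, hxo⟩ := exists_prime_orderOf_dvd_card' r hrd
    rw [Subgroup.orderOf_mk] at hxo
    have h1 : (x : G) ∈ A := ⟨⟨x, hx, rfl⟩, by
      have := pow_orderOf_eq_one x
      rw [hxo] at this
      exact congrArg Subtype.val this⟩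
    rw [hA, mem_bot] at h1
    have h2 : x = 1 := Subtype.ext h1
    rw [h2, orderOf_one] at hxo
    exact hr.one_lt.ne hxo

end Basic

section PSL

variable {p : ℕ} [hpf : Fact p.Prime]

/-- A commutative dihedral group has `n ≤ 2`. -/
theorem dihedral_le_two {n : ℕ} (h : ∀ x y : DihedralGroup n, x * y = y * x) : n ≤ 2 := by
  have h1 := h (DihedralGroup.r 1) (DihedralGroup.sr 0)
  rw [DihedralGroup.r_mul_sr, DihedralGroup.sr_mul_r] at h1
  have h2 : (0 - 1 : ZMod n) = 0 + 1 := DihedralGroup.sr.inj h1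
  have h3 : ((2 : ℕ) : ZMod n) = 0 := by
    push_cast
    linear_combination -h2
  rw [ZMod.natCast_eq_zero_iff] at h3
  exact Nat.le_of_dvd (by norm_num) h3

theorem PP.dihedral {G : Type*} [Group G] (hp : p ≠ 2) (h : PP p G) {H : Subgroup G} {n : ℕ}
    (hn : 2 < n) (e : H ≃* DihedralGroup n) : p ∣ n := by
  have : NeZero n := ⟨by omega⟩
  by_contra hd
  have hc : Nat.card H = 2 * n := by
    rw [Nat.card_congr e.toEquiv, DihedralGroup.nat_card]
  have hcop : (Nat.card H).Coprime p := by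
    rw [hc]
    apply Nat.Coprime.mul_left
    · rw [Nat.coprime_comm, Nat.Prime.coprime_iff_not_dvd hpf.out]
      intro h2
      exact hp ((Nat.prime_dvd_prime_iff_eq hpf.out Nat.prime_two).1 h2)
    · rw [Nat.coprime_comm, Nat.Prime.coprime_iff_not_dvd hpf.out]
      exact hd
  obtain ⟨h1, -⟩ := h H hcop
  have := dihedral_le_two (n := n) (by
    intro x y
    obtain ⟨x, rfl⟩ := e.surjective x
    obtain ⟨y, rfl⟩ := e.surjective y
    rw [← map_mul, ← map_mul]
    congr 1
    exact Subtype.ext (h1 x x.2 y y.2))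
  omega

/-- `PSL(2, q)`, `q ≥ 4`, has nonabelian `p'`-subgroups. -/
theorem psl_two (hp : p ≠ 2) {F : Type*} [Field F] [Fintype F] (hq : 4 ≤ Fintype.card F)
    (h : PP p (Matrix.ProjectiveSpecialLinearGroup (Fin 2) F)) : False := by
  set q := Fintype.card F with hqdef
  obtain ⟨C, H, -, -, -, -, ⟨e⟩, -⟩ := Cfsg.Agent.ClassicalGeometry.PSLTorus.exists_psl_torus F
  obtain ⟨e'⟩ := Cfsg.Agent.S0812.nonempty_mulEquiv_pmono (F := F) hqdef.symm
  rcases Nat.even_or_odd (q - 1) with hev | hod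
  · -- `q` odd
    have hg : Nat.gcd 2 (q - 1) = 2 := Nat.gcd_eq_left hev.two_dvd
    rw [← hqdef, hg] at e
    rw [hg] at e'
    obtain ⟨k, hk⟩ := hev
    have e1 : (q + 1) / 2 = k + 1 := by omega
    have e2 : (q - 1) / 2 = k := by omega
    rw [e1] at e
    rw [e2] at e'
    have hd1 := h.dihedral hp (by omega) e
    by_cases hk2 : 2 < k
    · have hd2 := h.dihedral hp hk2 e'
      have h1 : p ∣ 1 := by
        have := Nat.dvd_sub hd1 hd2
        simpa using this
      exact hpf.out.one_lt.ne' (Nat.dvd_one.1 h1)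
    · have hk3 : k = 2 := by omega
      have hq5 : Fintype.card F = 5 := by omega
      have hp3 : p = 3 := by
        rw [hk3] at hd1
        exact (Nat.prime_dvd_prime_iff_eq hpf.out Nat.prime_three).1 hd1
      -- `PSL(2, 5) ≅ PSL(2, 4)`
      obtain ⟨ε⟩ := Cfsg.Agent.S0253.result hq5
      let F4 := GaloisField 2 2
      have : Fintype F4 := Fintype.ofFinite F4
      have hF4 : Fintype.card F4 = 4 := by
        rw [← Nat.card_eq_fintype_card, GaloisField.card 2 2 (by norm_num)]
        norm_num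
      obtain ⟨ε'⟩ := Cfsg.Agent.S0252.result hF4
      have h4 := h.of_equiv (ε.trans ε'.symm)
      obtain ⟨C4, H4, -, -, -, -, ⟨e4⟩, -⟩ := Cfsg.Agent.ClassicalGeometry.PSLTorus.exists_psl_torus F4
      rw [hF4] at e4
      have hd := h4.dihedral hp (n := (4 + 1) / Nat.gcd 2 (4 - 1)) (by norm_num) e4
      rw [hp3] at hd
      norm_num at hd
  · have hg : Nat.gcd 2 (q - 1) = 1 := by
      rw [← Nat.coprime_iff_gcd_eq_one, Nat.coprime_two_left]
      exact hod
    rw [← hqdef, hg, Nat.div_one] at e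
    rw [hg, Nat.div_one] at e'
    have hd1 := h.dihedral hp (by omega) e
    have hd2 := h.dihedral hp (by omega) e'
    have h1 : p ∣ 2 := by
      have := Nat.dvd_sub hd1 hd2
      have e3 : q + 1 - (q - 1) = 2 := by omega
      rwa [e3] at this
    exact hp ((Nat.prime_dvd_prime_iff_eq hpf.out Nat.prime_two).1 h1)

/-- The order of `PSL(3, 3)`. -/
theorem card_psl_three {F : Type*} [Field F] [Fintype F] (hF : Fintype.card F = 3) :
    Nat.card (Matrix.ProjectiveSpecialLinearGroup (Fin 3) F) = 5616 := by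
  have h := Cfsg.Agent.S0243.result hF 3 (by norm_num)
  rw [Fin.prod_univ_three] at h
  norm_num at h
  omega

end PSL

/-- The list of the minimal simple groups (the text of S0488), as a hypothesis. -/
def MinSimpleList : Prop := ∀ (G : Type u) [Group G] [Finite G], Cfsg.IsMinimalSimple G →
    (∃ p : ℕ, p.Prime ∧ ∃ (F : Type) (_ : Field F) (_ : Fintype F), Fintype.card F = 2 ^ p ∧ Nonempty (G ≃* Matrix.ProjectiveSpecialLinearGroup (Fin 2) F)) ∨
      (∃ p : ℕ, p.Prime ∧ p ≠ 2 ∧ ∃ (F : Type) (_ : Field F) (_ : Fintype F), Fintype.card F = 3 ^ p ∧ Nonempty (G ≃* Matrix.ProjectiveSpecialLinearGroup (Fin 2) F)) ∨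
      (∃ p : ℕ, p.Prime ∧ (p = 5 ∨ (5 < p ∧ (p % 5 = 2 ∨ p % 5 = 3))) ∧ ∃ (F : Type) (_ : Field F) (_ : Fintype F), Fintype.card F = p ∧ Nonempty (G ≃* Matrix.ProjectiveSpecialLinearGroup (Fin 2) F)) ∨
      (∃ (F : Type) (_ : Field F) (_ : Fintype F), Fintype.card F = 3 ∧ Nonempty (G ≃* Matrix.ProjectiveSpecialLinearGroup (Fin 3) F)) ∨
      (Cfsg.IsSuzuki G ∧ ∃ p : ℕ, p.Prime ∧ Nat.card G = (2 ^ p) ^ 2 * ((2 ^ p) ^ 2 + 1) * (2 ^ p - 1))

/-- The list of the simple groups with abelian Sylow 2-subgroups (the text of S0506), as a hypothesis. -/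
def AbelianList : Prop := ∀ (G : Type u) [Group G] [Finite G] [IsSimpleGroup G],
    ¬ IsMulCommutative G → ∀ (S : Sylow 2 G), IsMulCommutative (S : Subgroup G) →
    (∃ a : ℕ, 2 ≤ a ∧ ∃ (F : Type) (_ : Field F) (_ : Fintype F), Fintype.card F = 2 ^ a ∧ Nonempty (G ≃* Matrix.ProjectiveSpecialLinearGroup (Fin 2) F)) ∨
      (∃ (F : Type) (_ : Field F) (_ : Fintype F), (Fintype.card F % 8 = 3 ∨ Fintype.card F % 8 = 5) ∧ Nonempty (G ≃* Matrix.ProjectiveSpecialLinearGroup (Fin 2) F)) ∨
      Cfsg.IsRee G ∨ Cfsg.IsJ1 G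

/-- No minimal simple group has `PP p`. -/
theorem not_minimalSimple (h1 : MinSimpleList.{u}) (h2 : AbelianList.{u}) {p : ℕ} [hpf : Fact p.Prime] (hp : p ≠ 2)
    {G : Type u} [Group G] [Finite G] (hG : Cfsg.IsMinimalSimple G) (h : PP p G) : False := by
  have hsimp := hG.1
  obtain ⟨S⟩ : Nonempty (Sylow 2 G) := inferInstance
  have hS : IsMulCommutative (S : Subgroup G) := by
    obtain ⟨n, hn⟩ := IsPGroup.iff_card.1 S.isPGroup'
    obtain ⟨h3, -⟩ := h (S : Subgroup G) (by
      rw [hn]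
      apply Nat.Coprime.pow_left
      rw [Nat.coprime_primes Nat.prime_two hpf.out]
      exact hp.symm)
    exact ⟨⟨fun x y => Subtype.ext (h3 x x.2 y y.2)⟩⟩
  have hree : ∀ m : ℕ, 1 ≤ m → 27 ≤ 3 ^ (2 * m + 1) := by
    intro m hm
    calc 27 = 3 ^ 3 := by norm_num
      _ ≤ 3 ^ (2 * m + 1) := Nat.pow_le_pow_right (by norm_num) (by omega)
  have h3dvd : Cfsg.IsRee G ∨ Cfsg.IsJ1 G → 3 ∣ Nat.card G ∧ Nat.card G ≠ 5616 := by
    rintro (⟨-, m, hm, hc⟩ | ⟨-, hc⟩)
    · have h27 := hree m hm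
      constructor
      · rw [hc]
        have h4 : 3 ∣ 3 ^ (2 * m + 1) := dvd_pow_self 3 (by omega)
        exact ((dvd_pow h4 (by norm_num)).mul_right _).mul_right _
      · rw [hc]
        intro he
        have h5 : 27 ^ 3 ≤ (3 ^ (2 * m + 1)) ^ 3 := Nat.pow_le_pow_left h27 3
        have h6 : 1 ≤ (3 ^ (2 * m + 1)) ^ 3 + 1 := by omega
        have h7 : 1 ≤ 3 ^ (2 * m + 1) - 1 := by omega
        have h8 : 27 ^ 3 * 1 * 1 ≤ (3 ^ (2 * m + 1)) ^ 3 * ((3 ^ (2 * m + 1)) ^ 3 + 1) * (3 ^ (2 * m + 1) - 1) :=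
          Nat.mul_le_mul (Nat.mul_le_mul h5 h6) h7
        rw [he] at h8
        norm_num at h8
    · rw [hc]
      norm_num
  rcases h2 G hG.2.1 S hS with ⟨a, ha, F, _, _, hF, ⟨e⟩⟩ | ⟨F, _, _, hF, ⟨e⟩⟩ | hRJ
  · refine psl_two hp ?_ (h.of_equiv e)
    rw [hF]
    calc 4 = 2 ^ 2 := by norm_num
      _ ≤ 2 ^ a := Nat.pow_le_pow_right (by norm_num) ha
  · by_cases hF3 : Fintype.card F = 3
    · -- `PSL(2, 3)` is not simple: its order is `12`
      exfalso
      have hc := Cfsg.Agent.S0243.result hF3 2 le_rfl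
      rw [Fin.prod_univ_two] at hc
      norm_num at hc
      have hc12 : Nat.card G = 12 := by
        rw [Nat.card_congr e.toEquiv]; omega
      rcases h1 G hG with ⟨q, hq, F', _, _, hF', ⟨e'⟩⟩ | ⟨q, hq, hq2, F', _, _, hF', ⟨e'⟩⟩ |
        ⟨q, hq, hq5, F', _, _, hF', ⟨e'⟩⟩ | ⟨F', _, _, hF', ⟨e'⟩⟩ | ⟨⟨-, m, hm, hc'⟩, -⟩
      · refine psl_two hp ?_ (h.of_equiv e')
        rw [hF']
        calc 4 = 2 ^ 2 := by norm_num
          _ ≤ 2 ^ q := Nat.pow_le_pow_right (by norm_num) hq.two_le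
      · refine psl_two hp ?_ (h.of_equiv e')
        rw [hF']
        calc 4 ≤ 3 ^ 2 := by norm_num
          _ ≤ 3 ^ q := Nat.pow_le_pow_right (by norm_num) hq.two_le
      · refine psl_two hp ?_ (h.of_equiv e')
        rw [hF']
        omega
      · have := card_psl_three hF'
        rw [← Nat.card_congr e'.toEquiv, hc12] at this
        omega
      · have h8 : 8 ≤ 2 ^ (2 * m + 1) := by
          calc 8 = 2 ^ 3 := by norm_num
            _ ≤ 2 ^ (2 * m + 1) := Nat.pow_le_pow_right (by norm_num) (by omega)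
        have h9 : 8 ^ 2 * 1 * 1 ≤ (2 ^ (2 * m + 1)) ^ 2 * ((2 ^ (2 * m + 1)) ^ 2 + 1) * (2 ^ (2 * m + 1) - 1) :=
          Nat.mul_le_mul (Nat.mul_le_mul (Nat.pow_le_pow_left h8 2) (by omega)) (by omega)
        rw [← hc', hc12] at h9
        norm_num at h9
    · refine psl_two hp ?_ (h.of_equiv e)
      omega
  · obtain ⟨h3, h4⟩ := h3dvd hRJ
    rcases h1 G hG with ⟨q, hq, F', _, _, hF', ⟨e'⟩⟩ | ⟨q, hq, hq2, F', _, _, hF', ⟨e'⟩⟩ |
      ⟨q, hq, hq5, F', _, _, hF', ⟨e'⟩⟩ | ⟨F', _, _, hF', ⟨e'⟩⟩ | ⟨⟨-, m, hm, hc'⟩, -⟩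
    · refine psl_two hp ?_ (h.of_equiv e')
      rw [hF']
      calc 4 = 2 ^ 2 := by norm_num
        _ ≤ 2 ^ q := Nat.pow_le_pow_right (by norm_num) hq.two_le
    · refine psl_two hp ?_ (h.of_equiv e')
      rw [hF']
      calc 4 ≤ 3 ^ 2 := by norm_num
        _ ≤ 3 ^ q := Nat.pow_le_pow_right (by norm_num) hq.two_le
    · refine psl_two hp ?_ (h.of_equiv e')
      rw [hF']
      omega
    · apply h4
      rw [Nat.card_congr e'.toEquiv]
      exact card_psl_three hF'
    · -- the Suzuki order is prime to 3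
      rw [hc'] at h3
      have h5 : 2 ^ (2 * m + 1) % 3 = 2 := by
        rw [pow_succ, pow_mul, Nat.mul_mod, Nat.pow_mod]
        norm_num
      have h6 : 1 ≤ 2 ^ (2 * m + 1) := Nat.one_le_two_pow
      rcases (Nat.Prime.dvd_mul Nat.prime_three).1 h3 with h7 | h7
      · rcases (Nat.Prime.dvd_mul Nat.prime_three).1 h7 with h8 | h8
        · have h9 := Nat.prime_three.dvd_of_dvd_pow h8
          omega
        · have h9 : ((2 ^ (2 * m + 1)) ^ 2 + 1) % 3 = 2 := by
            rw [Nat.add_mod, Nat.pow_mod, h5]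
          omega
      · omega

/-- **Main theorem.** -/
theorem main (h1 : MinSimpleList.{u}) (h2 : AbelianList.{u}) {p : ℕ} [hpf : Fact p.Prime] :
    ∀ (n : ℕ) (G : Type u) [Group G] [Finite G], Nat.card G ≤ n → PP p G → Group.IsSolvable G := by
  intro n
  induction n with
  | zero =>
    intro G _ _ hn _
    exact absurd hn (by have : 0 < Nat.card G := Nat.card_pos; omega)
  | succ n ih =>
    intro G _ _ hn h
    by_contra hns
    have hprop : ∀ H : Subgroup G, H ≠ ⊤ → Group.IsSolvable H := by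
      intro H hH
      refine ih H ?_ (h.subgroup H)
      have h3 : Nat.card H < Nat.card G := by
        rw [← Subgroup.card_top (G := G)]
        exact Set.ncard_lt_ncard (Set.ssubset_iff_subset_ne.2
          ⟨fun x _ => trivial, fun heq => hH (SetLike.coe_injective heq)⟩) (Set.toFinite _)
      omega
    have hno : ∀ N : Subgroup G, N.Normal → N ≠ ⊥ → Group.IsSolvable N → False := by
      intro N hN hN1 hNs
      obtain ⟨r, A, hr, hAn, hAr, hA1⟩ := exists_normal_pgroup hN hN1 hNs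
      have hfr : Fact r.Prime := ⟨hr⟩
      have hq : Group.IsSolvable (G ⧸ A) := by
        refine ih _ ?_ (h.quotient hr A hAr)
        have h3 : Nat.card G = Nat.card (G ⧸ A) * Nat.card A :=
          Subgroup.card_eq_card_quotient_mul_card_subgroup A
        have h4 : 1 < Nat.card A := by rw [Subgroup.one_lt_card_iff_ne_bot]; exact hA1
        have h5 : 0 < Nat.card (G ⧸ A) := Nat.card_pos
        nlinarith
      have hAs : Group.IsSolvable A := by
        have : Group.IsNilpotent A := hAr.isNilpotent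
        infer_instance
      exact hns ((Group.isSolvable_iff_subgroup_quotient A).2 ⟨hAs, hq⟩)
    have hnt : Nontrivial G := by
      by_contra hcon
      rw [not_nontrivial_iff_subsingleton] at hcon
      exact hns inferInstance
    have hsimp : IsSimpleGroup G := by
      refine ⟨fun N hN => ?_⟩
      by_contra hcon
      push Not at hcon
      exact hno N hN hcon.1 (hprop N hcon.2)
    have hmin : Cfsg.IsMinimalSimple G := by
      refine ⟨hsimp, ?_, hprop⟩
      intro hc
      apply hns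
      exact Group.isSolvable_of_comm hc.is_comm.comm
    by_cases hp : p = 2
    · -- `G` is a 2-group
      subst hp
      have h2g : IsPGroup 2 G := by
        rw [IsPGroup.iff_card]
        obtain ⟨k, m, hm, hkm⟩ := Nat.exists_eq_pow_mul_and_not_dvd (n := Nat.card G) Nat.card_pos.ne' 2
          (by norm_num)
        refine ⟨k, ?_⟩
        rw [hkm]
        by_cases hm1 : m = 1
        · rw [hm1, mul_one]
        · exfalso
          obtain ⟨r, hr, hrm⟩ := Nat.exists_prime_and_dvd hm1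
          have hfr : Fact r.Prime := ⟨hr⟩
          have hrG : r ∣ Nat.card G := by rw [hkm]; exact hrm.mul_left _
          obtain ⟨x, hx⟩ := exists_prime_orderOf_dvd_card' r hrG
          have hr2 : r ≠ 2 := by rintro rfl; exact hm hrm
          obtain ⟨-, h4⟩ := h (zpowers x) (by
            rw [Nat.card_zpowers, hx, Nat.coprime_primes hr Nat.prime_two]
            exact hr2)
          have h5 := h4 x (mem_zpowers x)
          rw [show 2 - 1 = 1 by norm_num, pow_one] at h5
          rw [h5, orderOf_one] at hx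
          exact hr.one_lt.ne hx
      have : Group.IsNilpotent G := h2g.isNilpotent
      exact hns inferInstance
    · exact not_minimalSimple h1 h2 hp hmin h

end Cfsg.Agent.H26.SolvPPrime
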