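import Cfsg.Agent.H26.LayOut

/-!
# Coprime automorphisms of prime order and components: quasisimple subgroups of the layer
-/

set_option autoImplicit false

namespace Cfsg.Agent.H26.Lay

open Subgroup
open scoped commutatorElement
open Cfsg.Agent.SignalizersComponents.Components

section Proj

variable {G : Type*} [Group G]

theorem conj_mem_centralizer {L : Subgroup G} {g c : G} (hg : g ∈ normalizer (L : Set G))
    (hc : c ∈ centralizer (L : Set G)) : g * c * g⁻¹ ∈ centralizer (L : Set G) := by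
  rw [mem_centralizer_iff]
  intro l hl
  have h1 : g⁻¹ * l * g⁻¹⁻¹ ∈ L := (mem_normalizer_iff.1 (inv_mem hg) l).1 hl
  have h2 := mem_centralizer_iff.1 hc _ h1
  rw [inv_inv] at h2
  calc l * (g * c * g⁻¹) = g * ((g⁻¹ * l * g) * c) * g⁻¹ := by group
    _ = g * (c * (g⁻¹ * l * g)) * g⁻¹ := by rw [h2]
    _ = g * c * g⁻¹ * l := by group

/-- The projection of `K` to `L`. -/
def proj (L K : Subgroup G) (h : K ≤ normalizer (L : Set G)) : Subgroup G where
  carrier := {x | x ∈ L ∧ ∃ k ∈ K, k⁻¹ * x ∈ centralizer (L : Set G)}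
  one_mem' := ⟨L.one_mem, 1, K.one_mem, by rw [inv_one, one_mul]; exact one_mem _⟩
  mul_mem' := by
    rintro x y ⟨hx, k, hk, hkx⟩ ⟨hy, l, hl, hly⟩
    refine ⟨L.mul_mem hx hy, k * l, K.mul_mem hk hl, ?_⟩
    have h1 := conj_mem_centralizer (h (K.inv_mem hl)) hkx
    have e : (k * l)⁻¹ * (x * y) = (l⁻¹ * (k⁻¹ * x) * l⁻¹⁻¹) * (l⁻¹ * y) := by group
    rw [e]; exact mul_mem h1 hly
  inv_mem' := by
    rintro x ⟨hx, k, hk, hkx⟩
    refine ⟨L.inv_mem hx, k⁻¹, K.inv_mem hk, ?_⟩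
    have h1 := conj_mem_centralizer (h hk) hkx
    have e : k⁻¹⁻¹ * x⁻¹ = (k * (k⁻¹ * x) * k⁻¹)⁻¹ := by group
    rw [e]; exact inv_mem h1

theorem mem_proj {L K : Subgroup G} {h : K ≤ normalizer (L : Set G)} {x : G} :
    x ∈ proj L K h ↔ x ∈ L ∧ ∃ k ∈ K, k⁻¹ * x ∈ centralizer (L : Set G) := Iff.rfl

/-- Commutators of elements acting like commuting elements. -/
theorem comm_mem_centralizer {L : Subgroup G} {x y k l : G} (hx : x ∈ normalizer (L : Set G))
    (hy : y ∈ normalizer (L : Set G)) (hk : k ∈ normalizer (L : Set G)) (hl : l ∈ normalizer (L : Set G))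
    (hkx : k⁻¹ * x ∈ centralizer (L : Set G)) (hly : l⁻¹ * y ∈ centralizer (L : Set G)) (hkl : k * l = l * k) :
    x * y * x⁻¹ * y⁻¹ ∈ centralizer (L : Set G) := by
  let A : normalizer (L : Set G) →* MulAut L := L.normalizerMonoidHom
  have hker : A.ker = (centralizer (L : Set G)).subgroupOf (normalizer (L : Set G)) :=
    Subgroup.normalizerMonoidHom_ker L
  have h1 : A ⟨k, hk⟩ = A ⟨x, hx⟩ := by
    have : (⟨k, hk⟩ : normalizer (L : Set G))⁻¹ * ⟨x, hx⟩ ∈ A.ker := by rw [hker]; exact hkx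
    rwa [MonoidHom.mem_ker, map_mul, map_inv, inv_mul_eq_one] at this
  have h2 : A ⟨l, hl⟩ = A ⟨y, hy⟩ := by
    have : (⟨l, hl⟩ : normalizer (L : Set G))⁻¹ * ⟨y, hy⟩ ∈ A.ker := by rw [hker]; exact hly
    rwa [MonoidHom.mem_ker, map_mul, map_inv, inv_mul_eq_one] at this
  have h3 : (⟨k, hk⟩ : normalizer (L : Set G)) * ⟨l, hl⟩ = ⟨l, hl⟩ * ⟨k, hk⟩ := Subtype.ext hkl
  have h4 : (⟨x, hx⟩ : normalizer (L : Set G)) * ⟨y, hy⟩ * ⟨x, hx⟩⁻¹ * ⟨y, hy⟩⁻¹ ∈ A.ker := by
    rw [MonoidHom.mem_ker, map_mul, map_mul, map_mul, map_inv, map_inv, ← h1, ← h2, ← map_mul, h3, map_mul,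
      mul_inv_cancel_right, mul_inv_cancel]
  rw [hker] at h4
  exact h4

/-- Elements of the layer act on components as elements of the component. -/
theorem exists_of_mem_layer {L : Subgroup G} [Finite G] (hL : IsComponent L) {e : G} (he : e ∈ layer G) :
    ∃ l ∈ L, l⁻¹ * e ∈ centralizer (L : Set G) := by
  have hLN : L ≤ normalizer (L : Set G) := le_normalizer
  let J : Subgroup G :=
    { carrier := {e | ∃ l ∈ L, l⁻¹ * e ∈ centralizer (L : Set G)}
      one_mem' := ⟨1, L.one_mem, by rw [inv_one, one_mul]; exact one_mem _⟩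
      mul_mem' := by
        rintro x y ⟨k, hk, hkx⟩ ⟨l, hl, hly⟩
        refine ⟨k * l, L.mul_mem hk hl, ?_⟩
        have h1 := conj_mem_centralizer (hLN (L.inv_mem hl)) hkx
        have e : (k * l)⁻¹ * (x * y) = (l⁻¹ * (k⁻¹ * x) * l⁻¹⁻¹) * (l⁻¹ * y) := by group
        rw [e]; exact mul_mem h1 hly
      inv_mem' := by
        rintro x ⟨k, hk, hkx⟩
        refine ⟨k⁻¹, L.inv_mem hk, ?_⟩
        have h1 := conj_mem_centralizer (hLN hk) hkx
        have e : k⁻¹⁻¹ * x⁻¹ = (k * (k⁻¹ * x) * k⁻¹)⁻¹ := by group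
        rw [e]; exact inv_mem h1 }
  have h1 : layer G ≤ J := by
    rw [layer_le_iff]
    intro M hM x hx
    by_cases h : M = L
    · refine ⟨x, by rw [← h]; exact hx, by rw [inv_mul_cancel]; exact one_mem _⟩
    · refine ⟨1, L.one_mem, ?_⟩
      rw [inv_one, one_mul]
      exact component_le_centralizer_of_ne hM hL h hx
  exact h1 he

theorem not_le_centralizer_self {L : Subgroup G} (hL : IsQuasisimple L) : ¬ L ≤ centralizer (L : Set G) := by
  intro h
  apply quasisimple_not_isMulCommutative hL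
  exact ⟨⟨fun a b => Subtype.ext (mem_centralizer_iff.1 (h b.2) a a.2)⟩⟩

theorem eq_of_normal {L P : Subgroup G} (hL : IsQuasisimple L) (hPL : P ≤ L) (hn : L ≤ normalizer (P : Set G))
    (hP : ¬ P ≤ centralizer (L : Set G)) : P = L := by
  rcases quasisimple_normal hL _ (normal_subgroupOf_of_le_normalizer hn) with h | h
  · exact le_antisymm hPL (subgroupOf_eq_top.1 h)
  · exfalso
    apply hP
    intro x hx
    rw [mem_centralizer_iff]
    intro l hl
    have h1 : (⟨x, hPL hx⟩ : L) ∈ center L := h hx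
    exact congrArg Subtype.val (mem_center_iff.1 h1 ⟨l, hl⟩)

end Proj

section ClaimOne

variable {G : Type*} [Group G] [Finite G]

/-- **Claim 1.** -/
theorem claim_one {r : ℕ} (hr : r.Prime) {α : MulAut G} (hα : α ^ r = 1)
    {K : Subgroup G} (hKE : K ≤ layer G)
    (hcomm : ∀ c, α c = c → tw (MulAut.conj c) K = K ∨ ⁅K, tw (MulAut.conj c) K⁆ = ⊥)
    {M : Subgroup G} (hM : IsComponent M) (hMα : tw α M ≠ M) (hKM : ¬ K ≤ centralizer (M : Set G)) :
    (∀ m ∈ M, ∃ k ∈ K, k⁻¹ * m ∈ centralizer (M : Set G)) ∧ ∀ m ∈ M, tw (MulAut.conj (dg α r m)) K = K := by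
  have hd := tw_le_centralizer hr hα hM hMα
  have hEM : layer G ≤ normalizer (M : Set G) := layer_le_normalizer_component hM
  have hKN : K ≤ normalizer (M : Set G) := hKE.trans hEM
  have hMN : M ≤ normalizer (M : Set G) := le_normalizer
  set P := proj M K hKN with hP
  have hPM : P ≤ M := fun x hx => hx.1
  have hMC : ∀ x ∈ M, x ∈ centralizer (M : Set G) → x ∈ P := fun x hx hxc =>
    ⟨hx, 1, K.one_mem, by rw [inv_one, one_mul]; exact hxc⟩
  have hPC : ¬ P ≤ centralizer (M : Set G) := by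
    intro h
    apply hKM
    intro k hk
    obtain ⟨l, hl, hlk⟩ := exists_of_mem_layer hM (hKE hk)
    have h1 : l ∈ P := by
      refine ⟨hl, k, hk, ?_⟩
      have := inv_mem hlk
      rwa [mul_inv_rev, inv_inv] at this
    have h2 := mul_mem (h h1) hlk
    rwa [mul_inv_cancel_left] at h2
  -- conjugation by `dg m`
  have hconj : ∀ m ∈ M, ∀ y ∈ M, m * y * m⁻¹ = dg α r m * y * (dg α r m)⁻¹ := by
    intro m hm y hy
    obtain ⟨c, hc, hdg, -⟩ := dg_eq hr.pos hd hm
    have h1 := mem_centralizer_iff.1 hc y hy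
    rw [hdg]
    calc m * y * m⁻¹ = m * (y * c) * c⁻¹ * m⁻¹ := by group
      _ = m * (c * y) * c⁻¹ * m⁻¹ := by rw [h1]
      _ = _ := by group
  have hdN : ∀ m ∈ M, dg α r m ∈ normalizer (M : Set G) := by
    intro m hm
    obtain ⟨c, hc, hdg, -⟩ := dg_eq hr.pos hd hm
    rw [hdg]
    refine mul_mem (hMN hm) ?_
    exact (centralizer_le_normalizer _) hc
  have case1 : ∀ m ∈ M, tw (MulAut.conj (dg α r m)) K = K → ∀ x ∈ P, m * x * m⁻¹ ∈ P := by
    rintro m hm hK x ⟨hx, k, hk, hkx⟩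
    refine ⟨M.mul_mem (M.mul_mem hm hx) (M.inv_mem hm), dg α r m * k * (dg α r m)⁻¹, ?_, ?_⟩
    · have h1 := mem_tw_conj (g := dg α r m) hk
      rwa [hK] at h1
    · rw [hconj m hm x hx]
      have e : (dg α r m * k * (dg α r m)⁻¹)⁻¹ * (dg α r m * x * (dg α r m)⁻¹) =
          dg α r m * (k⁻¹ * x) * (dg α r m)⁻¹ := by group
      rw [e]
      exact conj_mem_centralizer (hdN m hm) hkx
  have case2 : ∀ m ∈ M, ⁅K, tw (MulAut.conj (dg α r m)) K⁆ = ⊥ → ∀ x ∈ P, ∀ y ∈ P,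
      x * (m * y * m⁻¹) * x⁻¹ * (m * y * m⁻¹)⁻¹ ∈ centralizer (M : Set G) := by
    rintro m hm hK x ⟨hx, k, hk, hkx⟩ y ⟨hy, l, hl, hly⟩
    rw [commutator_eq_bot_iff_le_centralizer] at hK
    have h1 : k * (dg α r m * l * (dg α r m)⁻¹) = (dg α r m * l * (dg α r m)⁻¹) * k :=
      (mem_centralizer_iff.1 (hK hk) _ (mem_tw_conj hl)).symm
    have hy' : m * y * m⁻¹ ∈ M := M.mul_mem (M.mul_mem hm hy) (M.inv_mem hm)
    refine comm_mem_centralizer (hMN hx) (hMN hy') (hKN hk)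
      (mul_mem (mul_mem (hdN m hm) (hKN hl)) (inv_mem (hdN m hm))) hkx ?_ h1
    rw [hconj m hm y hy]
    have e : (dg α r m * l * (dg α r m)⁻¹)⁻¹ * (dg α r m * y * (dg α r m)⁻¹) =
          dg α r m * (l⁻¹ * y) * (dg α r m)⁻¹ := by group
    rw [e]
    exact conj_mem_centralizer (hdN m hm) hly
  -- the normal closure of `P` in `M` normalises `P`
  set Q : Subgroup G := ⨆ m : M, tw (MulAut.conj (m : G)) P with hQ
  have hQN : Q ≤ normalizer (P : Set G) := by
    rw [hQ, iSup_le_iff]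
    rintro ⟨m, hm⟩ _ ⟨y, hy, rfl⟩
    change m * y * m⁻¹ ∈ normalizer (P : Set G)
    rcases hcomm _ (dg_fixed hr.pos hα hd hm) with h | h
    · exact le_normalizer (case1 m hm h y hy)
    · refine mem_normalizer_of fun x hx => ?_
      have h1 := case2 m hm h x hx y hy
      have hz : m * y * m⁻¹ ∈ M := M.mul_mem (M.mul_mem hm (hPM hy)) (M.inv_mem hm)
      have h2 : (x * (m * y * m⁻¹) * x⁻¹ * (m * y * m⁻¹)⁻¹)⁻¹ ∈ P := by
        apply hMC
        · exact M.inv_mem (M.mul_mem (M.mul_mem (M.mul_mem (hPM hx) hz) (M.inv_mem (hPM hx))) (M.inv_mem hz))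
        · exact inv_mem h1
      have e : m * y * m⁻¹ * x * (m * y * m⁻¹)⁻¹ =
          (x * (m * y * m⁻¹) * x⁻¹ * (m * y * m⁻¹)⁻¹)⁻¹ * x := by group
      rw [e]
      exact P.mul_mem h2 hx
  have hQM : Q ≤ M := by
    rw [hQ, iSup_le_iff]
    rintro ⟨m, hm⟩ _ ⟨y, hy, rfl⟩
    exact M.mul_mem (M.mul_mem hm (hPM hy)) (M.inv_mem hm)
  have hPQ : P ≤ Q := by
    have h1 : tw (MulAut.conj ((1 : M) : G)) P ≤ Q := le_iSup (fun m : M => tw (MulAut.conj (m : G)) P) 1
    rwa [OneMemClass.coe_one, map_one, tw_one] at h1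
  have hMQ : M ≤ normalizer (Q : Set G) := by
    intro m hm
    rw [mem_normalizer_iff_tw]
    apply le_antisymm
    · rw [hQ, tw_eq, Subgroup.map_iSup]
      rw [iSup_le_iff]
      intro n
      rw [← tw_eq, ← tw_mul, ← map_mul]
      exact le_iSup (fun m : M => tw (MulAut.conj (m : G)) P) (⟨m, hm⟩ * n)
    · rw [hQ, tw_eq, Subgroup.map_iSup, iSup_le_iff]
      intro n
      refine le_trans ?_ (le_iSup _ (⟨m, hm⟩⁻¹ * n))
      rw [← tw_eq, ← tw_mul, ← map_mul]
      apply le_of_eq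
      congr 2
      change (n : G) = m * (m⁻¹ * n)
      rw [mul_inv_cancel_left]
  have hQeq : Q = M := eq_of_normal hM.2 hQM hMQ fun h => hPC (hPQ.trans h)
  have hPeq : P = M := eq_of_normal hM.2 hPM (by rw [← hQeq]; exact hQN) hPC
  refine ⟨fun m hm => ?_, fun m hm => ?_⟩
  · rw [← hPeq] at hm
    exact hm.2
  · refine (hcomm _ (dg_fixed hr.pos hα hd hm)).resolve_right fun h => ?_
    apply not_le_centralizer_self hM.2
    have h1 := case2 m hm h
    rw [hPeq] at h1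
    rw [← component_commutator_self hM, commutator_le]
    intro x hx y hy
    have h2 := h1 x hx (m⁻¹ * y * m) (M.mul_mem (M.mul_mem (M.inv_mem hm) hy) hm)
    have e : m * (m⁻¹ * y * m) * m⁻¹ = y := by group
    rw [e] at h2
    rw [component_commutator_self hM]
    exact h2

end ClaimOne

end Cfsg.Agent.H26.Lay
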