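import Cfsg.Agent.H26.LayBasic

/-!
# Coprime automorphisms of prime order and components: diagonal elements and permutation of components
-/

set_option autoImplicit false

namespace Cfsg.Agent.H26.Lay

open Subgroup
open scoped commutatorElement
open Cfsg.Agent.SignalizersComponents.Components

section Inner

variable {G : Type*} [Group G] [Finite G]

/-- A perfect group acting on `L` by inner automorphisms and centralising `C_L(α)` centralises `L`. -/
theorem centralises_of_inner {r : ℕ} (hr : r.Prime) (hcop : (Nat.card G).Coprime r) {α : MulAut G}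
    (hα : α ^ r = 1) {L K : Subgroup G} (hL : tw α L = L) (hKL : K ≤ normalizer (L : Set G)) (hKp : ⁅K, K⁆ = K)
    (hin : ∀ k ∈ K, ∃ l ∈ L, l⁻¹ * k ∈ centralizer (L : Set G))
    (hfix : ∀ x ∈ L, α x = x → ∀ k ∈ K, k * x = x * k) : K ≤ centralizer (L : Set G) := by
  set F : Set G := {x | x ∈ L ∧ α x = x} with hF
  set Y : Subgroup G := L ⊓ centralizer F with hY
  have hYα : tw α Y = Y := by
    refine Subgroup.eq_of_le_of_card_ge ?_ ?_
    · rintro _ ⟨y, ⟨hyL, hyF⟩, rfl⟩
      refine ⟨by rw [← hL]; exact apply_mem_tw hyL, ?_⟩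
      change α y ∈ centralizer F
      rw [mem_centralizer_iff]
      rintro x ⟨hxL, hxα⟩
      have h1 := mem_centralizer_iff.1 hyF x ⟨hxL, hxα⟩
      have h2 := congrArg α h1
      rwa [map_mul, map_mul, hxα] at h2
    · exact (Nat.card_congr (Y.equivMapOfInjective _ α.injective).toEquiv).le
  have hYnil : Group.IsNilpotent Y := by
    refine nilpotent_subgroup hr hcop hα hYα fun x hx hxα y hy => ?_
    exact mem_centralizer_iff.1 hy.2 x ⟨hx.1, hxα⟩
  -- `K ≤ Y C(L)`
  have hKY : ∀ k ∈ K, ∃ y ∈ Y, y⁻¹ * k ∈ centralizer (L : Set G) := by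
    intro k hk
    obtain ⟨l, hl, hlk⟩ := hin k hk
    refine ⟨l, ⟨hl, ?_⟩, hlk⟩
    change l ∈ centralizer F
    rw [mem_centralizer_iff]
    rintro x ⟨hxL, hxα⟩
    have h1 := hfix x hxL hxα k hk
    have h2 := mem_centralizer_iff.1 hlk x hxL
    calc x * l = l * (l⁻¹ * x * l) := by group
      _ = l * (l⁻¹ * (x * k) * (l⁻¹ * k)⁻¹) := by group
      _ = l * (l⁻¹ * (k * x) * (l⁻¹ * k)⁻¹) := by rw [h1]
      _ = l * (((l⁻¹ * k) * x) * (l⁻¹ * k)⁻¹) := by group
      _ = l * ((x * (l⁻¹ * k)) * (l⁻¹ * k)⁻¹) := by rw [h2]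
      _ = l * x := by group
  -- pass to automorphisms of `L`
  let A : normalizer (L : Set G) →* MulAut L := L.normalizerMonoidHom
  have hker : A.ker = (centralizer (L : Set G)).subgroupOf (normalizer (L : Set G)) :=
    Subgroup.normalizerMonoidHom_ker L
  have hYN : Y ≤ normalizer (L : Set G) := inf_le_left.trans le_normalizer
  set C : Subgroup (MulAut L) := (K.subgroupOf (normalizer (L : Set G))).map A with hC
  have hCY : C ≤ (Y.subgroupOf (normalizer (L : Set G))).map A := by
    rintro _ ⟨⟨k, hkN⟩, hk, rfl⟩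
    obtain ⟨y, hy, hyk⟩ := hKY k hk
    refine ⟨⟨y, hYN hy⟩, hy, ?_⟩
    have h1 : (⟨y, hYN hy⟩ : normalizer (L : Set G))⁻¹ * ⟨k, hkN⟩ ∈ A.ker := by
      rw [hker]; exact hyk
    rw [MonoidHom.mem_ker, map_mul, map_inv, inv_mul_eq_one] at h1
    exact h1
  have hYs : Group.IsSolvable ((Y.subgroupOf (normalizer (L : Set G))).map A) := by
    have h1 : Group.IsSolvable (Y.subgroupOf (normalizer (L : Set G))) := by
      have : Group.IsSolvable Y := inferInstance
      exact Group.isSolvable_of_isSolvable_injective (f := (Subgroup.subgroupOfEquivOfLe hYN).toMonoidHom)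
        (Subgroup.subgroupOfEquivOfLe hYN).injective
    exact Group.isSolvable_of_surjective (f := A.subgroupMap (Y.subgroupOf (normalizer (L : Set G))))
      (A.subgroupMap_surjective _)
  have hCs : Group.IsSolvable C := Group.isSolvable_of_isSolvable_injective (f := Subgroup.inclusion hCY)
    (Subgroup.inclusion_injective hCY)
  have hCp : ⁅C, C⁆ = C := by
    rw [hC]
    apply Schreier.Basic.map_perfect
    apply Subgroup.map_injective (normalizer (L : Set G)).subtype_injective
    rw [map_commutator, subgroupOf_map_subtype, inf_eq_left.2 hKL, hKp]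
  have hCbot := Schreier.Basic.eq_bot_of_perfect_of_solvable hCp hCs
  intro k hk
  have h1 : A ⟨k, hKL hk⟩ ∈ C := ⟨⟨k, hKL hk⟩, hk, rfl⟩
  rw [hCbot, mem_bot] at h1
  have h2 : (⟨k, hKL hk⟩ : normalizer (L : Set G)) ∈ A.ker := h1
  rw [hker] at h2
  exact h2

end Inner

section Diag

variable {G : Type*} [Group G]

/-- `x * α x * ... * α ^ (n - 1) x`. -/
def pr (α : MulAut G) (x : G) : ℕ → G
  | 0 => 1
  | n + 1 => pr α x n * (α ^ n) x

theorem pr_zero (α : MulAut G) (x : G) : pr α x 0 = 1 := rfl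

theorem pr_succ (α : MulAut G) (x : G) (n : ℕ) : pr α x (n + 1) = pr α x n * (α ^ n) x := rfl

theorem pr_succ' (α : MulAut G) (x : G) (n : ℕ) : pr α x (n + 1) = x * α (pr α x n) := by
  induction n with
  | zero => rw [pr_succ, pr_zero, pow_zero, MulAut.one_apply, map_one, one_mul, mul_one]
  | succ n ih =>
    rw [pr_succ α x (n + 1), ih, mul_assoc, pow_succ', MulAut.mul_apply, ← map_mul, ← pr_succ, ih]

theorem pr_mem {α : MulAut G} {x : G} {n : ℕ} {N : Subgroup G} (h : ∀ i < n, (α ^ i) x ∈ N) : pr α x n ∈ N := by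
  induction n with
  | zero => exact N.one_mem
  | succ n ih => exact N.mul_mem (ih fun i hi => h i (by omega)) (h n (by omega))

/-- The diagonal element of `x`. -/
def dg (α : MulAut G) (r : ℕ) (x : G) : G := pr α x r

theorem dg_mem {α : MulAut G} {r : ℕ} {x : G} {N : Subgroup G} (h : ∀ i < r, (α ^ i) x ∈ N) :
    dg α r x ∈ N := pr_mem h

/-- The diagonal element of `x ∈ L` is `x c`, `c` centralising `L`. -/
theorem dg_eq {α : MulAut G} {r : ℕ} (hr : 0 < r) {L : Subgroup G}
    (hd : ∀ i, 0 < i → i < r → tw (α ^ i) L ≤ centralizer (L : Set G)) {x : G} (hx : x ∈ L) :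
    ∃ c ∈ centralizer (L : Set G), dg α r x = x * c ∧
      ∀ N : Subgroup G, (∀ i, 0 < i → i < r → (α ^ i) x ∈ N) → c ∈ N := by
  obtain ⟨n, rfl⟩ : ∃ n, r = n + 1 := ⟨r - 1, by omega⟩
  have hN : ∀ N : Subgroup G, (∀ i, 0 < i → i < n + 1 → (α ^ i) x ∈ N) → α (pr α x n) ∈ N := by
    intro N hN
    have h1 : pr α x n ∈ N.comap α.toMonoidHom := by
      refine pr_mem fun i hi => ?_
      change α ((α ^ i) x) ∈ N
      rw [← MulAut.mul_apply, ← pow_succ']
      exact hN (i + 1) (by omega) (by omega)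
    exact h1
  refine ⟨α (pr α x n), hN _ fun i hi hin => hd i hi hin (apply_mem_tw hx), pr_succ' α x n, hN⟩

theorem dg_fixed {α : MulAut G} {r : ℕ} (hr : 0 < r) (hα : α ^ r = 1) {L : Subgroup G}
    (hd : ∀ i, 0 < i → i < r → tw (α ^ i) L ≤ centralizer (L : Set G)) {x : G} (hx : x ∈ L) :
    α (dg α r x) = dg α r x := by
  obtain ⟨c, hc, hdg, -⟩ := dg_eq hr hd hx
  have h1 : x * α (dg α r x) = dg α r x * x := by
    have h2 := pr_succ' α x r
    have h3 := pr_succ α x r
    rw [hα, MulAut.one_apply] at h3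
    change x * α (pr α x r) = pr α x r * x
    rw [← h2, h3]
  have h2 : dg α r x * x = x * dg α r x := by
    rw [hdg, mul_assoc, (mem_centralizer_iff.1 hc x hx).symm]
  rw [h2] at h1
  exact mul_left_cancel h1

end Diag

section Perm

variable {G : Type*} [Group G] [Finite G]

omit [Finite G] in
/-- Distinctness of the conjugates of a moved component. -/
theorem tw_ne {α : MulAut G} {r : ℕ} (hr : r.Prime) (hα : α ^ r = 1) {L : Subgroup G} (hL : tw α L ≠ L) {i j : ℕ}
    (hi : i < r) (hj : j < r) (h : tw (α ^ i) L = tw (α ^ j) L) : i = j := by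
  wlog hij : i ≤ j generalizing i j
  · exact (this hj hi h.symm (by omega)).symm
  by_contra hne
  apply hL
  refine tw_fixed_of_pow hr hα (i := j - i) (by omega) (by omega) ?_
  have h1 : tw (α ^ i) (tw (α ^ (j - i)) L) = tw (α ^ i) L := by
    rw [← tw_mul, ← pow_add, h]
    congr 2; omega
  have h2 := congrArg (tw (α ^ i)⁻¹) h1
  have h3 : ∀ M : Subgroup G, tw (α ^ i)⁻¹ (tw (α ^ i) M) = M := by
    intro M
    rw [← tw_mul, inv_mul_cancel, tw_one]
  rwa [h3, h3] at h2

omit [Finite G] in
theorem tw_le_centralizer {α : MulAut G} {r : ℕ} (hr : r.Prime) (hα : α ^ r = 1) {L : Subgroup G}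
    (hLc : IsComponent L) (hL : tw α L ≠ L) : ∀ i, 0 < i → i < r → tw (α ^ i) L ≤ centralizer (L : Set G) := by
  intro i hi hir
  refine component_le_centralizer_of_ne (tw_component _ hLc) hLc ?_
  intro h
  exact hL (tw_fixed_of_pow hr hα hi hir h)

/-- **Permutation of components.**  The elements commuting with all the diagonal elements of a moved component `L`
normalise `L`. -/
theorem mem_normalizer_of_comm_dg {r : ℕ} (hr : r.Prime) (hcop : (Nat.card G).Coprime r) {α : MulAut G}
    (hα : α ^ r = 1) {L : Subgroup G} (hLc : IsComponent L) (hL : tw α L ≠ L) {g : G}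
    (hg : ∀ x ∈ L, g * dg α r x = dg α r x * g) : g ∈ normalizer (L : Set G) := by
  have hd := tw_le_centralizer hr hα hLc hL
  set S : Subgroup G := centralizer {d | ∃ x ∈ L, d = dg α r x} with hS
  have hgS : g ∈ S := by
    rw [hS, mem_centralizer_iff]
    rintro _ ⟨x, hx, rfl⟩
    exact (hg x hx).symm
  have hSα : ∀ s ∈ S, α s ∈ S := by
    intro s hs
    rw [hS, mem_centralizer_iff]
    rintro _ ⟨x, hx, rfl⟩
    have h1 := mem_centralizer_iff.1 hs _ ⟨x, hx, rfl⟩
    have h2 := congrArg α h1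
    rwa [map_mul, map_mul, dg_fixed hr.pos hα hd hx] at h2
  have hSαn : ∀ n : ℕ, ∀ s ∈ S, (α ^ n) s ∈ S := by
    intro n
    induction n with
    | zero => intro s hs; exact hs
    | succ n ih => intro s hs; rw [pow_succ', MulAut.mul_apply]; exact hSα _ (ih s hs)
  -- (c1)
  have c1 : ∀ s ∈ S, ∃ i < r, tw (MulAut.conj s) L = tw (α ^ i) L := by
    intro s hs
    by_contra hcon
    push Not at hcon
    have hM : IsComponent (tw (MulAut.conj s) L) := tw_component _ hLc
    -- `L` is abelian
    have hab : ∀ x ∈ L, ∀ y ∈ L, x * y = y * x := by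
      intro x hx y hy
      have h1 : dg α r x ∈ centralizer (tw (MulAut.conj s) L : Set G) := by
        refine dg_mem fun i hi => ?_
        exact component_le_centralizer_of_ne (tw_component _ hLc) hM (hcon i hi).symm (apply_mem_tw hx)
      have h2 := mem_centralizer_iff.1 h1 (s * y * s⁻¹) (mem_tw_conj hy)
      have h3 := mem_centralizer_iff.1 hs _ ⟨x, hx, rfl⟩
      have h4 : y * dg α r x = dg α r x * y := by
        have e1 : y * dg α r x = s⁻¹ * ((s * y * s⁻¹) * (s * dg α r x)) := by group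
        rw [e1, ← h3]
        have e2 : s⁻¹ * ((s * y * s⁻¹) * (dg α r x * s)) = s⁻¹ * (((s * y * s⁻¹) * dg α r x) * s) := by group
        rw [e2, h2]
        have e3 : s⁻¹ * ((dg α r x * (s * y * s⁻¹)) * s) = s⁻¹ * ((dg α r x * s) * y) := by group
        rw [e3, h3]; group
      obtain ⟨c, hc, hdg, -⟩ := dg_eq hr.pos hd hx
      rw [hdg] at h4
      have h5 := mem_centralizer_iff.1 hc y hy
      have h6 : y * x * c = x * y * c := by
        calc y * x * c = y * (x * c) := by group
          _ = x * c * y := h4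
          _ = x * (c * y) := by group
          _ = x * (y * c) := by rw [h5]
          _ = x * y * c := by group
      exact (mul_right_cancel h6).symm
    apply quasisimple_not_isMulCommutative hLc.2
    exact ⟨⟨fun a b => Subtype.ext (hab a a.2 b b.2)⟩⟩
  -- suppose `S` does not normalise `L`
  by_contra hgN
  rw [mem_normalizer_iff_tw] at hgN
  obtain ⟨i, hir, hi⟩ := c1 g hgS
  have hi0 : 0 < i := by
    rcases Nat.eq_zero_or_pos i with h | h
    · exfalso
      apply hgN
      rw [hi, h, pow_zero, tw_one]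
    · exact h
  -- all conjugates are reached
  have step : ∀ n : ℕ, ∃ s ∈ S, tw (MulAut.conj s) L = tw (α ^ (i * n)) L := by
    intro n
    induction n with
    | zero => exact ⟨1, S.one_mem, by rw [map_one, mul_zero, pow_zero]⟩
    | succ n ih =>
      obtain ⟨s, hs, hsL⟩ := ih
      refine ⟨(α ^ (i * n)) g * s, S.mul_mem (hSαn _ g hgS) hs, ?_⟩
      rw [map_mul, tw_mul, hsL, ← tw_mul, conj_apply_mul, tw_mul, hi, ← tw_mul, ← pow_add]
      congr 2
  have hall : ∀ j < r, ∃ s ∈ S, tw (MulAut.conj s) L = tw (α ^ j) L := by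
    intro j hj
    have hcopi : i.Coprime r := ((Nat.Prime.coprime_iff_not_dvd hr).2 (Nat.not_dvd_of_pos_of_lt hi0 hir)).symm
    obtain ⟨m, -, hm⟩ := Nat.exists_mul_mod_eq_one_of_coprime hcopi hr.one_lt
    obtain ⟨s, hs, hsL⟩ := step (m * j)
    refine ⟨s, hs, ?_⟩
    rw [hsL]
    have h1 : α ^ (i * (m * j)) = α ^ j := by
      have h2 : i * m = r * (i * m / r) + 1 := by
        conv_lhs => rw [← Nat.div_add_mod (i * m) r, hm]
      rw [← mul_assoc, h2, add_mul, pow_add, mul_assoc, pow_mul, hα, one_pow, one_mul, one_mul]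
    rw [h1]
  -- orbit count
  let act : MulAction S (Subgroup G) :=
    { smul := fun s M => tw (MulAut.conj (s : G)) M
      one_smul := fun M => by
        change tw (MulAut.conj ((1 : S) : G)) M = M
        rw [OneMemClass.coe_one, map_one, tw_one]
      mul_smul := fun s t M => by
        change tw (MulAut.conj ((s * t : S) : G)) M = tw (MulAut.conj (s : G)) (tw (MulAut.conj (t : G)) M)
        rw [Subgroup.coe_mul, map_mul, tw_mul] }
  have hact : ∀ (s : S) (M : Subgroup G), s • M = tw (MulAut.conj (s : G)) M := by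
    intro s M
    rfl
  have horb : MulAction.orbit S L = Set.range (fun j : Fin r => tw (α ^ (j : ℕ)) L) := by
    ext M
    constructor
    · rintro ⟨s, rfl⟩
      obtain ⟨j, hj, hjL⟩ := c1 s s.2
      refine ⟨⟨j, hj⟩, ?_⟩
      exact hjL.symm
    · rintro ⟨j, rfl⟩
      obtain ⟨s, hs, hsL⟩ := hall j j.2
      exact ⟨⟨s, hs⟩, hsL⟩
  have hcard : (MulAction.orbit S L).ncard = r := by
    rw [horb, ← Set.image_univ, Set.ncard_image_of_injective, Set.ncard_univ, Nat.card_fin]
    intro a b hab
    exact Fin.ext (tw_ne hr hα hL a.2 b.2 hab)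
  have hidx := MulAction.index_stabilizer S (x := L)
  rw [hcard] at hidx
  have h1 : r ∣ Nat.card S := by
    rw [← hidx]; exact Subgroup.index_dvd_card _
  have h2 : r ∣ Nat.card G := h1.trans S.card_subgroup_dvd_card
  have h3 : r ∣ 1 := by
    rw [← hcop.gcd_eq_one]; exact Nat.dvd_gcd h2 dvd_rfl
  exact hr.one_lt.ne' (Nat.dvd_one.1 h3)

end Perm

end Cfsg.Agent.H26.Lay
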