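import Cfsg.Agent.H26.LayMain

/-!
# Coprime automorphisms of prime order and quasisimple subgroups: ambient form
-/

set_option autoImplicit false

namespace Cfsg.Agent.H26.Lay

open Subgroup
open scoped commutatorElement
open Cfsg.Agent.SignalizersComponents.Components

section TypeForm

variable {G : Type*} [Group G] [Finite G]

theorem main_type {r : ℕ} (hr : r.Prime) (hcop : (Nat.card G).Coprime r) {α : MulAut G} (hα : α ^ r = 1)
    {K : Subgroup G} (hK : IsQuasisimple K)
    (hcomm : ∀ c, α c = c → tw (MulAut.conj c) K = K ∨ ⁅K, tw (MulAut.conj c) K⁆ = ⊥)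
    (hcommα : ∀ i : ℕ, tw (α ^ i) K = K ∨ ⁅K, tw (α ^ i) K⁆ = ⊥) (hnc : ∃ k ∈ K, α k ≠ k)
    (hF : K ≤ centralizer (fittingSubgroup G : Set G))
    (hSch : ∀ L : Subgroup G, IsComponent L → Schreier.Basic.Sch (L ⧸ center L)) :
    IsComponent K ∨ ∃ L : Subgroup G, IsComponent L ∧ tw α L = L ∧ K ≤ L :=
  in_layer hr hcop hα hK (le_layer hr hcop hα hK hcomm hF hSch) hcomm hcommα hnc

omit [Finite G] in
/-- A quasisimple subgroup commuting with its distinct conjugates is a component. -/
theorem isComponent_of_comm {K : Subgroup G} (hK : IsQuasisimple K)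
    (hcomm : ∀ c : G, tw (MulAut.conj c) K = K ∨ ⁅K, tw (MulAut.conj c) K⁆ = ⊥) : IsComponent K := by
  refine ⟨?_, hK⟩
  have h1 : normalClosure (K : Set G) ≤ normalizer (K : Set G) := by
    have h2 : normalClosure (K : Set G) = ⨆ g : G, tw (MulAut.conj g) K := by
      apply le_antisymm
      · have hn : (⨆ g : G, tw (MulAut.conj g) K).Normal := by
          constructor
          intro x hx g
          have h3 : (⨆ g : G, tw (MulAut.conj g) K) ≤
              (⨆ g : G, tw (MulAut.conj g) K).comap (MulAut.conj g).toMonoidHom := by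
            rw [iSup_le_iff]
            intro h
            rw [← map_le_iff_le_comap, ← tw_eq, ← tw_mul, ← map_mul]
            exact le_iSup (fun g : G => tw (MulAut.conj g) K) (g * h)
          exact h3 hx
        refine normalClosure_le_normal ?_
        have h4 : tw (MulAut.conj 1) K ≤ ⨆ g : G, tw (MulAut.conj g) K :=
          le_iSup (fun g : G => tw (MulAut.conj g) K) 1
        rw [map_one, tw_one] at h4
        exact h4
      · rw [iSup_le_iff]
        rintro g _ ⟨x, hx, rfl⟩
        exact (normalClosure_normal (s := (K : Set G))).conj_mem _ (subset_normalClosure hx) g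
    rw [h2, iSup_le_iff]
    intro g
    rcases hcomm g with h | h
    · rw [h]; exact le_normalizer
    · rw [commutator_comm, commutator_eq_bot_iff_le_centralizer] at h
      exact h.trans (centralizer_le_normalizer _)
  have h2 : (normalClosure (K : Set G)).IsSubnormal := Normal.isSubnormal inferInstance
  have hKN : K ≤ normalClosure (K : Set G) := subset_normalClosure
  have h3 : (K.subgroupOf (normalClosure (K : Set G))).Normal := normal_subgroupOf_of_le_normalizer h1
  have h4 : (K.subgroupOf (normalClosure (K : Set G))).IsSubnormal := Normal.isSubnormal h3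
  have h5 := h4.trans' h2
  rwa [subgroupOf_map_subtype, inf_eq_left.2 hKN] at h5

end TypeForm

section Ambient

variable {X : Type*} [Group X] [Finite X]

/-- The conclusion of S1929, given that `K` centralises `F(G)` when `R` does not centralise `K`. -/
theorem main_ambient (G R : Subgroup X) (r : ℕ) [hrf : Fact r.Prime] (hR : Nat.card ↥R = r)
    (hcop : (Nat.card ↥G).Coprime r) (hnorm : R ≤ Subgroup.normalizer (G : Set X)) (K : Subgroup X) (hKG : K ≤ G)
    (hKq : Cfsg.IsQuasisimple ↥K)
    (hcomm : ∀ g ∈ R ⊔ (G ⊓ Subgroup.centralizer (R : Set X)), K.map (MulAut.conj g).toMonoidHom ≠ K →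
      ⁅K, K.map (MulAut.conj g).toMonoidHom⁆ = ⊥)
    (hF : (¬ K ≤ centralizer (R : Set X)) → K.subgroupOf G ≤ centralizer (Cfsg.fittingSubgroup ↥G : Set ↥G))
    (hSch : ∀ L : Subgroup ↥G, IsComponent L → Schreier.Basic.Sch (L ⧸ center L)) :
    (K ≤ G ⊓ Subgroup.centralizer (R : Set X) ∧
      Cfsg.IsComponent (K.subgroupOf (G ⊓ Subgroup.centralizer (R : Set X)))) ∨
    Cfsg.IsComponent (K.subgroupOf G) ∨ ∃ L : Subgroup X, L ≤ G ∧ Cfsg.IsComponent (L.subgroupOf G) ∧
      (∀ a ∈ R, L.map (MulAut.conj a).toMonoidHom = L) ∧ K ≤ L := by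
  have hr := hrf.out
  have hcomm' : ∀ g ∈ R ⊔ (G ⊓ Subgroup.centralizer (R : Set X)), K.map (MulAut.conj g).toMonoidHom = K ∨
      ⁅K, K.map (MulAut.conj g).toMonoidHom⁆ = ⊥ := by
    intro g hg
    by_cases h : K.map (MulAut.conj g).toMonoidHom = K
    · exact Or.inl h
    · exact Or.inr (hcomm g hg h)
  -- transfer of the commuting property to subgroups containing `K`
  have trans : ∀ (H : Subgroup X), K ≤ H → ∀ (g : X) (φ : MulAut H), (∀ h : H, ((φ h : H) : X) = g * h * g⁻¹) →
      (K.map (MulAut.conj g).toMonoidHom = K ∨ ⁅K, K.map (MulAut.conj g).toMonoidHom⁆ = ⊥) →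
      (tw φ (K.subgroupOf H) = K.subgroupOf H ∨ ⁅K.subgroupOf H, tw φ (K.subgroupOf H)⁆ = ⊥) := by
    intro H hKH g φ hφ hg
    have h1 : (tw φ (K.subgroupOf H)).map H.subtype = K.map (MulAut.conj g).toMonoidHom := by
      ext x
      constructor
      · rintro ⟨_, ⟨k, hk, rfl⟩, rfl⟩
        exact ⟨k, hk, (hφ k).symm⟩
      · rintro ⟨k, hk, rfl⟩
        exact ⟨φ ⟨k, hKH hk⟩, ⟨⟨k, hKH hk⟩, hk, rfl⟩, hφ _⟩
    have h2 : (K.subgroupOf H).map H.subtype = K := by rw [subgroupOf_map_subtype, inf_eq_left.2 hKH]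
    rcases hg with h | h
    · left
      apply Subgroup.map_injective H.subtype_injective
      rw [h1, h2, h]
    · right
      apply Subgroup.map_injective H.subtype_injective
      rw [map_commutator, h1, h2, h, Subgroup.map_bot]
  have hKsub : ∀ H : Subgroup X, K ≤ H → IsQuasisimple (K.subgroupOf H) := fun H hKH =>
    isQuasisimple_of_mulEquiv (subgroupOfEquivOfLe hKH).symm hKq
  by_cases hKR : K ≤ centralizer (R : Set X)
  · left
    have hKC : K ≤ G ⊓ centralizer (R : Set X) := le_inf hKG hKR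
    refine ⟨hKC, isComponent_of_comm (hKsub _ hKC) fun c => ?_⟩
    exact trans _ hKC c (MulAut.conj c) (fun h => rfl) (hcomm' c (le_sup_right (a := R) c.2))
  right
  -- a generator of `R`
  obtain ⟨a, haR, ha⟩ : ∃ a ∈ R, R = zpowers a := by
    have : IsCyclic R := isCyclic_of_prime_card hR
    obtain ⟨⟨a, ha⟩, hgen⟩ := IsCyclic.exists_generator (α := R)
    refine ⟨a, ha, le_antisymm (fun x hx => ?_) (zpowers_le.2 ha)⟩
    obtain ⟨n, hn⟩ := hgen ⟨x, hx⟩
    exact ⟨n, congrArg Subtype.val hn⟩
  have har : a ^ r = 1 := by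
    have h1 : (⟨a, haR⟩ : R) ^ Nat.card R = 1 := pow_card_eq_one'
    rw [hR] at h1
    exact congrArg Subtype.val h1
  let α : MulAut G := G.normalizerMonoidHom ⟨a, hnorm haR⟩
  have hαn : ∀ (n : ℕ) (g : G), (((α ^ n) g : G) : X) = a ^ n * g * (a ^ n)⁻¹ := by
    intro n g
    have h1 : α ^ n = G.normalizerMonoidHom (⟨a, hnorm haR⟩ ^ n) := (map_pow _ _ _).symm
    rw [h1]; rfl
  have hα1 : ∀ g : G, ((α g : G) : X) = a * g * a⁻¹ := fun g => rfl
  have hαr : α ^ r = 1 := by
    ext g
    rw [hαn, har]; simp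
  set K₀ := K.subgroupOf G with hK₀
  have hnc : ∃ k ∈ K₀, α k ≠ k := by
    by_contra hcon
    push Not at hcon
    apply hKR
    intro k hk
    rw [ha, mem_centralizer_iff]
    intro x hx
    have h1 := congrArg Subtype.val (hcon ⟨k, hKG hk⟩ hk)
    rw [hα1] at h1
    have h2 : Commute a k := mul_inv_eq_iff_eq_mul.1 h1
    obtain ⟨n, rfl⟩ := mem_zpowers_iff.1 hx
    exact (h2.zpow_left n).eq
  have hcop' : (Nat.card G).Coprime r := hcop
  have main := main_type hr hcop' hαr (hKsub G hKG) (K := K₀) ?_ ?_ hnc (hF hKR) hSch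
  · rcases main with h | ⟨L, hL, hLα, hKL⟩
    · exact Or.inl h
    · right
      refine ⟨L.map G.subtype, map_subtype_le _, ?_, ?_, ?_⟩
      · rw [subgroupOf, comap_map_eq_self_of_injective G.subtype_injective]
        exact hL
      · intro b hb
        have h1 : zpowers a ≤ normalizer (L.map G.subtype : Set X) := by
          rw [zpowers_le]
          refine mem_normalizer_of ?_
          rintro _ ⟨l, hl, rfl⟩
          refine ⟨α l, ?_, rfl⟩
          rw [← hLα]
          exact apply_mem_tw hl
        rw [ha] at hb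
        have h2 := mem_normalizer_iff_tw.1 (h1 hb)
        exact h2
      · intro k hk
        exact ⟨⟨k, hKG hk⟩, hKL hk, rfl⟩
  · intro c hc
    refine trans G hKG c (MulAut.conj c) (fun h => rfl) (hcomm' c (le_sup_right (a := R) ⟨c.2, ?_⟩))
    change (c : X) ∈ centralizer (R : Set X)
    rw [ha, mem_centralizer_iff]
    intro x hx
    have h1 := congrArg Subtype.val hc
    rw [hα1] at h1
    have h2 : Commute a c := mul_inv_eq_iff_eq_mul.1 h1
    obtain ⟨n, rfl⟩ := mem_zpowers_iff.1 hx
    exact (h2.zpow_left n).eq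
  · intro i
    exact trans G hKG (a ^ i) (α ^ i) (hαn i) (hcomm' _ (le_sup_left (a := R) (R.pow_mem haR i)))

end Ambient

end Cfsg.Agent.H26.Lay
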