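import Cfsg.Agent.H26.LayFitA
import Cfsg.Agent.H26.LayFinal

/-!
# S1929 from Fact F3, the Schreier property and the odd order theorem
-/

set_option autoImplicit false

universe u

namespace Cfsg.Agent.H26.Lay

open Subgroup
open scoped commutatorElement
open Cfsg.Agent.SignalizersComponents.Components

/-- Fact F3. -/
def F3 : Prop := ∀ (L : Type u) [Group L] [Finite L] [IsSimpleGroup L], (∃ a b : L, a * b ≠ b * a) →
  ∀ r t : ℕ, r.Prime → t.Prime → ¬ r ∣ Nat.card L → ∀ x : MulAut L, x ^ r = 1 → x ≠ 1 →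
    ∃ s : ℕ, s.Prime ∧ s ≠ 2 ∧ s ≠ t ∧ ∃ S : Subgroup L, IsPGroup s S ∧ (∀ g ∈ S, x g ∈ S) ∧ ∃ g ∈ S, x g ≠ g

/-- The Schreier property. -/
def SchAll : Prop := ∀ (L : Type u) [Group L] [Finite L] [IsSimpleGroup L], ¬ IsMulCommutative L →
  Schreier.Basic.Sch L

/-- The odd order theorem. -/
def OddAll : Prop := ∀ (L : Type u) [Group L] [Finite L], Odd (Nat.card L) → Group.IsSolvable L

theorem quot_not_comm {K : Type u} [Group K] (hK : IsQuasisimple K) :
    ∃ a b : K ⧸ center K, a * b ≠ b * a := by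
  by_contra hcon
  push Not at hcon
  apply quasisimple_not_isSolvable hK
  have h1 : Group.IsSolvable (center K) := Group.isSolvable_of_comm fun a b => by
    apply Subtype.ext
    exact (mem_center_iff.1 a.2 b).symm
  have h2 : Group.IsSolvable (K ⧸ center K) := Group.isSolvable_of_comm hcon
  exact Group.isSolvable_of_ker_le_range (center K).subtype (QuotientGroup.mk' (center K)) (by
    rw [QuotientGroup.ker_mk', range_subtype])

theorem main_of_F3 (hF3 : F3.{u}) (hSch : SchAll.{u}) (hOdd : OddAll.{u}) {X : Type u} [Group X] [Finite X]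
    (G R : Subgroup X) (r : ℕ) [hrf : Fact r.Prime] (hR : Nat.card ↥R = r)
    (hcop : (Nat.card ↥G).Coprime r) (hnorm : R ≤ Subgroup.normalizer (G : Set X)) (K : Subgroup X) (hKG : K ≤ G)
    (hKq : Cfsg.IsQuasisimple ↥K)
    (hcomm : ∀ g ∈ R ⊔ (G ⊓ Subgroup.centralizer (R : Set X)), K.map (MulAut.conj g).toMonoidHom ≠ K →
      ⁅K, K.map (MulAut.conj g).toMonoidHom⁆ = ⊥) :
    (K ≤ G ⊓ Subgroup.centralizer (R : Set X) ∧
      Cfsg.IsComponent (K.subgroupOf (G ⊓ Subgroup.centralizer (R : Set X)))) ∨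
    Cfsg.IsComponent (K.subgroupOf G) ∨ ∃ L : Subgroup X, L ≤ G ∧ Cfsg.IsComponent (L.subgroupOf G) ∧
      (∀ a ∈ R, L.map (MulAut.conj a).toMonoidHom = L) ∧ K ≤ L := by
  have hr := hrf.out
  refine main_ambient G R r hR hcop hnorm K hKG hKq hcomm (fun hKR => ?_) (fun L hL => ?_)
  swap
  · have := hL.2.2
    refine hSch (L ⧸ center L) fun hc => ?_
    obtain ⟨a, b, hab⟩ := quot_not_comm hL.2
    exact hab (hc.is_comm.comm a b)
  -- a generator of `R`
  obtain ⟨a, haR, ha⟩ : ∃ a ∈ R, R = zpowers a := by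
    have : IsCyclic R := isCyclic_of_prime_card hR
    obtain ⟨⟨a, ha⟩, hgen⟩ := IsCyclic.exists_generator (α := R)
    refine ⟨a, ha, le_antisymm (fun x hx => ?_) (zpowers_le.2 ha)⟩
    obtain ⟨n, hn⟩ := hgen ⟨x, hx⟩
    exact ⟨n, congrArg Subtype.val hn⟩
  have har : a ^ r = 1 := by
    have h1 : (⟨a, haR⟩ : R) ^ Nat.card R = 1 := pow_card_eq_one'
    rw [hR] at h1
    exact congrArg Subtype.val h1
  have hrG : ¬ r ∣ Nat.card G := (Nat.Prime.coprime_iff_not_dvd hr).1 hcop.symm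
  have hcR : ∀ c : X, a * c = c * a → c ∈ centralizer (R : Set X) := by
    intro c hc
    rw [ha, mem_centralizer_iff]
    intro x hx
    obtain ⟨n, rfl⟩ := mem_zpowers_iff.1 hx
    exact ((show Commute a c from hc).zpow_left n).eq
  have hr2 : r ≠ 2 := by
    rintro rfl
    apply quasisimple_not_isSolvable hKq
    have h1 : Odd (Nat.card K) := by
      rw [← Nat.not_even_iff_odd, even_iff_two_dvd]
      exact fun h => hrG (h.trans (Subgroup.card_dvd_of_le hKG))
    exact hOdd K h1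
  have hnc : ∃ k ∈ K, a * k ≠ k * a := by
    by_contra hcon
    push Not at hcon
    exact hKR fun k hk => hcR k (hcon k hk)
  have hcomm' : ∀ g ∈ R ⊔ (G ⊓ Subgroup.centralizer (R : Set X)), tw (MulAut.conj g) K = K ∨
      ⁅K, tw (MulAut.conj g) K⁆ = ⊥ := by
    intro g hg
    by_cases h : K.map (MulAut.conj g).toMonoidHom = K
    · exact Or.inl h
    · exact Or.inr (hcomm g hg h)
  rw [le_centralizer_iff, Lib.Cores.fittingSubgroup_eq_iSup_pCore, iSup_le_iff]
  rintro ⟨t, ht⟩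
  rw [le_centralizer_iff]
  have htf : Fact t.Prime := ⟨ht⟩
  set V : Subgroup X := (pCore t G).map G.subtype with hV
  have hVG : V ≤ G := map_subtype_le _
  have hVp : IsPGroup t V := (Lib.Cores.pCore_isPGroup t).map _
  have hVn : (pCore t G).Normal := Lib.Cores.pCore_normal t
  have hGV : G ≤ normalizer (V : Set X) := by
    intro g hg
    refine mem_normalizer_of ?_
    rintro _ ⟨v, hv, rfl⟩
    exact ⟨⟨g, hg⟩ * v * ⟨g, hg⟩⁻¹, hVn.conj_mem v hv ⟨g, hg⟩, rfl⟩
  have haV : a ∈ normalizer (V : Set X) := by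
    refine mem_normalizer_of ?_
    rintro _ ⟨v, hv, rfl⟩
    let α : MulAut G := G.normalizerMonoidHom ⟨a, hnorm haR⟩
    have h1 : (pCore t G).map α.toMonoidHom ≤ pCore t G :=
      (characteristic_iff_map_le.1 (Lib.Cores.pCore_characteristic t)) α
    exact ⟨α v, h1 ⟨v, hv, rfl⟩, rfl⟩
  have main := centralises_pgroup (t := t) hr hr2 ht har hVp haV (hKG.trans hGV) hKq
    (fun h => hrG (h.trans (Subgroup.card_dvd_of_le hVG))) (fun h => hrG (h.trans (Subgroup.card_dvd_of_le hKG)))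
    (fun c hc hac => hcomm' c (le_sup_right (a := R) ⟨hVG hc, hcR c hac⟩))
    (fun i => hcomm' _ (le_sup_left (a := R) (R.pow_mem haR i))) hnc
    (fun φ hφ hφ1 => by
      have := hKq.2
      refine hF3 (K ⧸ center K) (quot_not_comm hKq) r t hr ht ?_ φ hφ hφ1
      exact fun h => hrG ((h.trans (Subgroup.card_quotient_dvd_card _)).trans (Subgroup.card_dvd_of_le hKG)))
  intro k hk
  rw [mem_centralizer_iff]
  intro v hv
  apply Subtype.ext
  exact mem_centralizer_iff.1 (main hk) v ⟨v, hv, rfl⟩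

end Cfsg.Agent.H26.Lay
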