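import Cfsg.Agent.H26.LayFinal

/-!
# S1933 from S1929
-/

set_option autoImplicit false

namespace Cfsg.Agent.H26.Lay

open Subgroup
open scoped commutatorElement
open Cfsg.Agent.SignalizersComponents.Components

variable {X : Type*} [Group X]

/-- The statement of S1933, given the statement of S1929 for the same `G` and `R`. -/
theorem layer_le_of (G R : Subgroup X)
    (h1929 : ∀ K : Subgroup X, K ≤ G → Cfsg.IsQuasisimple ↥K →
      (∀ g ∈ R ⊔ (G ⊓ Subgroup.centralizer (R : Set X)), K.map (MulAut.conj g).toMonoidHom ≠ K →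
        ⁅K, K.map (MulAut.conj g).toMonoidHom⁆ = ⊥) →
      (K ≤ G ⊓ Subgroup.centralizer (R : Set X) ∧
        Cfsg.IsComponent (K.subgroupOf (G ⊓ Subgroup.centralizer (R : Set X)))) ∨
      Cfsg.IsComponent (K.subgroupOf G) ∨ ∃ L : Subgroup X, L ≤ G ∧ Cfsg.IsComponent (L.subgroupOf G) ∧
        (∀ a ∈ R, L.map (MulAut.conj a).toMonoidHom = L) ∧ K ≤ L)
    (H : Subgroup X) (hHG : H ≤ G)
    (hHinv : R ⊔ (G ⊓ Subgroup.centralizer (R : Set X)) ≤ Subgroup.normalizer (H : Set X)) (hHR : ⁅H, R⁆ = H) :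
    (Cfsg.layer ↥H).map H.subtype ≤ (Cfsg.layer ↥G).map G.subtype := by
  rw [map_le_iff_le_comap, layer_le_iff]
  intro K hK
  rw [← map_le_iff_le_comap]
  by_contra hKE
  have hEn : (layer G).Normal := layer_normal G
  -- every `H`-conjugate of `K` is centralised by `R`
  have key : ∀ h : H, (tw (MulAut.conj h) K).map H.subtype ≤ centralizer (R : Set X) := by
    intro h
    have hM : IsComponent (tw (MulAut.conj h) K) := tw_component _ hK
    set M := tw (MulAut.conj h) K with hMdef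
    have hME : ¬ M.map H.subtype ≤ (layer G).map G.subtype := by
      intro hle
      apply hKE
      rintro _ ⟨k, hk, rfl⟩
      obtain ⟨e, he, hek⟩ := hle ⟨h * k * h⁻¹, mem_tw_conj hk, rfl⟩
      refine ⟨⟨h, hHG h.2⟩⁻¹ * e * ⟨h, hHG h.2⟩⁻¹⁻¹, hEn.conj_mem e he _, ?_⟩
      have h1 : (e : X) = h * k * (h : X)⁻¹ := hek
      change (h : X)⁻¹ * (e : X) * (h : X)⁻¹⁻¹ = k
      rw [h1]; group
    have hMX : M.map H.subtype ≤ H := map_subtype_le _
    have hcommM : ∀ g ∈ R ⊔ (G ⊓ Subgroup.centralizer (R : Set X)),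
        (M.map H.subtype).map (MulAut.conj g).toMonoidHom ≠ M.map H.subtype →
        ⁅M.map H.subtype, (M.map H.subtype).map (MulAut.conj g).toMonoidHom⁆ = ⊥ := by
      intro g hg hne
      have hgN := hHinv hg
      let φ : MulAut H := H.normalizerMonoidHom ⟨g, hgN⟩
      have hφ : ∀ x : H, ((φ x : H) : X) = g * x * g⁻¹ := fun x => rfl
      have h1 : (tw φ M).map H.subtype = (M.map H.subtype).map (MulAut.conj g).toMonoidHom := by
        ext x
        constructor
        · rintro ⟨_, ⟨k, hk, rfl⟩, rfl⟩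
          exact ⟨k, ⟨k, hk, rfl⟩, rfl⟩
        · rintro ⟨_, ⟨k, hk, rfl⟩, rfl⟩
          exact ⟨φ k, ⟨k, hk, rfl⟩, rfl⟩
      have h2 : tw φ M ≠ M := by
        intro h
        apply hne
        rw [← h1, h]
      have h3 := component_commutator_eq_bot_of_ne hM (tw_component φ hM) h2.symm
      rw [← h1, ← map_commutator, h3, Subgroup.map_bot]
    rcases h1929 (M.map H.subtype) (hMX.trans hHG)
      (isQuasisimple_of_mulEquiv (M.equivMapOfInjective H.subtype H.subtype_injective) hM.2) hcommM with h2 | h2 | h2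
    · exact h2.1.trans inf_le_right
    · exfalso
      apply hME
      rintro _ ⟨k, hk, rfl⟩
      exact ⟨⟨k, hHG k.2⟩, component_le_layer h2 (show (k : X) ∈ M.map H.subtype from ⟨k, hk, rfl⟩), rfl⟩
    · exfalso
      obtain ⟨L, hLG, hL, -, hML⟩ := h2
      apply hME
      intro x hx
      exact ⟨⟨x, hLG (hML hx)⟩, component_le_layer hL (hML hx), rfl⟩
  -- `H = [H, R]` centralises `K`
  have hHK : H ≤ centralizer (K.map H.subtype : Set X) := by
    refine hHR.ge.trans ?_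
    rw [commutator_le]
    intro h hh a ha
    rw [mem_centralizer_iff]
    rintro _ ⟨k, hk, rfl⟩
    have h1 := key ⟨h, hh⟩⁻¹ ⟨_, mem_tw_conj hk, rfl⟩
    have h2 : a * (h⁻¹ * k * h⁻¹⁻¹) = (h⁻¹ * k * h⁻¹⁻¹) * a := mem_centralizer_iff.1 h1 a ha
    have h3 := key 1 ⟨_, mem_tw_conj hk, rfl⟩
    have h4 : a * (1 * k * (1 : X)⁻¹) = (1 * k * (1 : X)⁻¹) * a := mem_centralizer_iff.1 h3 a ha
    rw [one_mul, inv_one, mul_one] at h4
    rw [inv_inv] at h2
    change (k : X) * ⁅h, a⁆ = ⁅h, a⁆ * k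
    rw [commutatorElement_def]
    have h5 : a⁻¹ * (k : X) = k * a⁻¹ := by
      rw [inv_mul_eq_iff_eq_mul, ← mul_assoc, h4, mul_inv_cancel_right]
    calc (k : X) * (h * a * h⁻¹ * a⁻¹) = h * ((h⁻¹ * k * h) * a) * h⁻¹ * a⁻¹ := by group
      _ = h * (a * (h⁻¹ * k * h)) * h⁻¹ * a⁻¹ := by rw [h2]
      _ = h * a * h⁻¹ * (k * a⁻¹) := by group
      _ = h * a * h⁻¹ * (a⁻¹ * k) := by rw [h5]
      _ = h * a * h⁻¹ * a⁻¹ * k := by group
  apply quasisimple_not_isMulCommutative hK.2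
  refine ⟨⟨fun x y => ?_⟩⟩
  apply Subtype.ext
  apply Subtype.ext
  have h1 : ((x : H) : X) ∈ centralizer (K.map H.subtype : Set X) := hHK (x : H).2
  exact (mem_centralizer_iff.1 h1 ((y : H) : X) ⟨y, y.2, rfl⟩).symm

end Cfsg.Agent.H26.Lay
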