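import Cfsg.Agent.H26.LayFit
import Cfsg.Agent.S0144

/-!
# Coprime automorphisms of prime order: quasisimple subgroups centralise `t`-groups (main step)
-/

set_option autoImplicit false

namespace Cfsg.Agent.H26.Lay

open Subgroup
open scoped commutatorElement
open Cfsg.Agent.SignalizersComponents.Components

section Lift

/-- Lifting the subgroup of Fact F3 to the quasisimple group. -/
theorem invariant_lift {K : Type*} [Group K] [Finite K] {r t : ℕ} (hr : r.Prime) (hcop : (Nat.card K).Coprime r)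
    (hK : IsQuasisimple K) (β : MulAut K) (hβ : β ^ r = 1) (hne : ∃ k, β k ≠ k)
    (hF3 : ∀ φ : MulAut (K ⧸ center K), φ ^ r = 1 → φ ≠ 1 → ∃ s : ℕ, s.Prime ∧ s ≠ 2 ∧ s ≠ t ∧
      ∃ S : Subgroup (K ⧸ center K), IsPGroup s S ∧ (∀ g ∈ S, φ g ∈ S) ∧ ∃ g ∈ S, φ g ≠ g) :
    ∃ s : ℕ, s.Prime ∧ s ≠ 2 ∧ s ≠ t ∧ ∃ T : Subgroup K, IsPGroup s T ∧ (∀ y ∈ T, β y ∈ T) ∧
      ∃ y ∈ T, y⁻¹ * β y ∉ center K := by
  have hZ : (center K).map (β : K ≃* K).toMonoidHom = center K :=
    (characteristic_iff_map_eq.1 (inferInstance : (center K).Characteristic)) β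
  let φ : MulAut (K ⧸ center K) := QuotientGroup.congr (center K) (center K) β hZ
  have hφ : ∀ y : K, φ (y : K ⧸ center K) = ((β y : K) : K ⧸ center K) := fun y => rfl
  have hφn : ∀ (n : ℕ) (y : K), (φ ^ n) (y : K ⧸ center K) = (((β ^ n) y : K) : K ⧸ center K) := by
    intro n
    induction n with
    | zero => intro y; rfl
    | succ n ih => intro y; rw [pow_succ', MulAut.mul_apply, ih, hφ, pow_succ', MulAut.mul_apply]
  have hφr : φ ^ r = 1 := by
    ext q
    obtain ⟨y, rfl⟩ := QuotientGroup.mk_surjective q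
    rw [hφn, hβ]; rfl
  have hφ1 : φ ≠ 1 := by
    intro h
    have hc : ∀ y, y⁻¹ * β y ∈ center K := by
      intro y
      have h1 := hφ y
      rw [h, MulAut.one_apply, QuotientGroup.eq] at h1
      exact h1
    let f : K →* center K :=
      { toFun := fun y => ⟨y⁻¹ * β y, hc y⟩
        map_one' := by
          apply Subtype.ext
          change (1 : K)⁻¹ * β 1 = 1
          rw [map_one, inv_one, one_mul]
        map_mul' := by
          intro a b
          apply Subtype.ext
          change (a * b)⁻¹ * β (a * b) = (a⁻¹ * β a) * (b⁻¹ * β b)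
          have h1 := mem_center_iff.1 (hc a) b⁻¹
          rw [map_mul]
          calc (a * b)⁻¹ * (β a * β b) = (b⁻¹ * (a⁻¹ * β a)) * β b := by group
            _ = ((a⁻¹ * β a) * b⁻¹) * β b := by rw [h1]
            _ = _ := by group }
    have hp : Group.IsPerfect K := hK.1
    have h1 : commutator K ≤ f.ker := by
      rw [commutator_eq_closure, closure_le]
      rintro _ ⟨a, b, rfl⟩
      rw [SetLike.mem_coe, MonoidHom.mem_ker, map_commutatorElement, commutatorElement_eq_one_iff_mul_comm]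
      apply Subtype.ext
      exact (mem_center_iff.1 (f a).2 (f b)).symm
    obtain ⟨k, hk⟩ := hne
    apply hk
    have h2 : k ∈ f.ker := by
      apply h1
      rw [Group.IsPerfect.commutator_eq_top]
      trivial
    have h3 : k⁻¹ * β k = 1 := congrArg Subtype.val h2
    exact (inv_mul_eq_one.1 h3).symm
  obtain ⟨s, hs, hs2, hst, S, hS, hSφ, g, hg, hgφ⟩ := hF3 φ hφr hφ1
  have hsf : Fact s.Prime := ⟨hs⟩
  have hrf : Fact r.Prime := ⟨hr⟩
  refine ⟨s, hs, hs2, hst, ?_⟩
  set P := S.comap (QuotientGroup.mk' (center K)) with hP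
  have hPβ : tw β P = P := by
    refine Subgroup.eq_of_le_of_card_ge ?_ ?_
    · rintro _ ⟨y, hy, rfl⟩
      exact hSφ _ hy
    · exact (Nat.card_congr (P.equivMapOfInjective _ β.injective).toEquiv).le
  obtain ⟨θ, hθ⟩ := exists_restrict hPβ
  obtain ⟨T, hT⟩ := PLocal.SL2Section2.exists_invariant_sylow (p := r) θ ⟨1, by
    rw [pow_one]
    ext y
    rw [hθ, hβ]; rfl⟩ (hcop.coprime_dvd_left P.card_subgroup_dvd_card) s
  have hπs : Function.Surjective ((QuotientGroup.mk' (center K)).subgroupComap S) := by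
    exact MonoidHom.subgroupComap_surjective_of_surjective _ _ (QuotientGroup.mk'_surjective _)
  have hTtop : (T : Subgroup P).map ((QuotientGroup.mk' (center K)).subgroupComap S) = ⊤ := by
    have h1 : IsPGroup s (⊤ : Subgroup S) := hS.to_subgroup _
    have h2 := (T.mapSurjective hπs).is_maximal' h1 le_top
    exact h2.symm
  refine ⟨(T : Subgroup P).map P.subtype, T.isPGroup'.map _, ?_, ?_⟩
  · rintro _ ⟨y, hy, rfl⟩
    refine ⟨θ y, hT y hy, ?_⟩
    have := hθ 1 y
    rwa [pow_one, pow_one] at this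
  · have h1 : (⟨g, hg⟩ : S) ∈ (T : Subgroup P).map ((QuotientGroup.mk' (center K)).subgroupComap S) := by
      rw [hTtop]; trivial
    obtain ⟨y, hy, hyg⟩ := h1
    refine ⟨y, ⟨y, hy, rfl⟩, fun h => hgφ ?_⟩
    have h2 : ((y : K) : K ⧸ center K) = g := congrArg Subtype.val hyg
    rw [← h2, hφ, eq_comm, QuotientGroup.eq]
    exact h

end Lift

section A

variable {X : Type*} [Group X] [Finite X]

omit [Finite X] in
theorem isPGroup_iSup_tw {r s : ℕ} {x : X} {S K : Subgroup X} (hS : IsPGroup s S) (hSK : S ≤ K)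
    (hc : ∀ i j, i < j → j < r → tw (MulAut.conj (x ^ j)) K ≤ centralizer (tw (MulAut.conj (x ^ i)) K : Set X)) :
    ∀ n ≤ r, IsPGroup s (⨆ i : Fin n, tw (MulAut.conj (x ^ (i : ℕ))) S : Subgroup X) := by
  intro n
  induction n with
  | zero =>
    intro _
    rw [iSup_of_empty]
    exact IsPGroup.of_bot
  | succ n ih =>
    intro hn
    have h1 : (⨆ i : Fin (n + 1), tw (MulAut.conj (x ^ (i : ℕ))) S : Subgroup X) =
        (⨆ i : Fin n, tw (MulAut.conj (x ^ (i : ℕ))) S : Subgroup X) ⊔ tw (MulAut.conj (x ^ n)) S := by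
      apply le_antisymm
      · rw [iSup_le_iff]
        intro i
        rcases Nat.lt_or_ge (i : ℕ) n with h | h
        · exact le_sup_of_le_left (le_iSup (fun i : Fin n => tw (MulAut.conj (x ^ (i : ℕ))) S) ⟨i, h⟩)
        · have : (i : ℕ) = n := by omega
          rw [this]; exact le_sup_right
      · refine sup_le ?_ ?_
        · rw [iSup_le_iff]
          intro i
          exact le_iSup (fun i : Fin (n + 1) => tw (MulAut.conj (x ^ (i : ℕ))) S) i.castSucc
        · exact le_iSup (fun i : Fin (n + 1) => tw (MulAut.conj (x ^ (i : ℕ))) S) (Fin.last n)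
    rw [h1]
    refine (ih (by omega)).to_sup_of_normal_right' (hS.map _) ?_
    rw [iSup_le_iff]
    intro i
    refine le_trans ?_ (centralizer_le_normalizer _)
    rw [le_centralizer_iff]
    exact ((tw_mono _ hSK).trans (hc i n i.2 (by omega))).trans
      (centralizer_le (SetLike.coe_subset_coe.2 (tw_mono _ hSK)))

/-- **(A)** A quasisimple subgroup not centralised by `x` centralises the `t`-group `V`. -/
theorem centralises_pgroup {r t : ℕ} (hr : r.Prime) (hr2 : r ≠ 2) (ht : t.Prime) {x : X} (hxr : x ^ r = 1)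
    {V K : Subgroup X} (hV : IsPGroup t V) (hxV : x ∈ normalizer (V : Set X)) (hKV : K ≤ normalizer (V : Set X))
    (hK : IsQuasisimple K) (hrV : ¬ r ∣ Nat.card V) (hrK : ¬ r ∣ Nat.card K)
    (hcommC : ∀ c ∈ V, x * c = c * x → tw (MulAut.conj c) K = K ∨ ⁅K, tw (MulAut.conj c) K⁆ = ⊥)
    (hcommx : ∀ i : ℕ, tw (MulAut.conj (x ^ i)) K = K ∨ ⁅K, tw (MulAut.conj (x ^ i)) K⁆ = ⊥)
    (hnc : ∃ k ∈ K, x * k ≠ k * x)
    (hF3 : ∀ φ : MulAut (K ⧸ center K), φ ^ r = 1 → φ ≠ 1 → ∃ s : ℕ, s.Prime ∧ s ≠ 2 ∧ s ≠ t ∧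
      ∃ S : Subgroup (K ⧸ center K), IsPGroup s S ∧ (∀ g ∈ S, φ g ∈ S) ∧ ∃ g ∈ S, φ g ≠ g) :
    K ≤ centralizer (V : Set X) := by
  have htf : Fact t.Prime := ⟨ht⟩
  have hKp : ⁅K, K⁆ = K := by
    have := hK.1
    exact Subgroup.commutator_eq_self (H := K)
  have hKnV : ∀ W : Subgroup X, IsPGroup t W → ¬ K ≤ W := by
    intro W hW hKW
    apply quasisimple_not_isSolvable hK
    have : Group.IsNilpotent K := (hW.to_le hKW).isNilpotent
    infer_instance
  -- (1)
  have c1 : ∀ c ∈ V, x * c = c * x → ∀ k ∈ K, c * k = k * c := fun c hc hxc =>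
    (le_or_centralises hK hKV hc (hcommC c hc hxc)).resolve_left (hKnV V hV)
  by_contra hcon
  -- (2)
  let Good : Subgroup X → Prop := fun Q => Q ≤ V ∧ x ∈ normalizer (Q : Set X) ∧ K ≤ normalizer (Q : Set X) ∧
    ¬ K ≤ centralizer (Q : Set X)
  obtain ⟨Q, ⟨hQV, hxQ, hKQ, hKcQ⟩, hmin⟩ := exists_minimal_of_wellFoundedLT Good ⟨V, le_rfl, hxV, hKV, hcon⟩
  have hQp : IsPGroup t Q := hV.to_le hQV
  have hQ1 : Q ≠ ⊥ := by
    rintro rfl
    apply hKcQ
    intro k _
    rw [mem_centralizer_iff]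
    intro h hh
    rw [SetLike.mem_coe, mem_bot] at hh
    rw [hh, one_mul, mul_one]
  have hrQ : ¬ r ∣ Nat.card Q := fun h => hrV (h.trans (Subgroup.card_dvd_of_le hQV))
  -- (3)
  have hDlt : ⁅Q, Q⁆ < Q := by
    have : Group.IsNilpotent Q := hQp.isNilpotent
    have : Nontrivial Q := (nontrivial_iff_ne_bot Q).2 hQ1
    rw [← map_subtype_commutator]
    have h := Group.IsSolvable.commutator_lt_top_of_nontrivial Q
    calc (commutator Q).map Q.subtype < (⊤ : Subgroup Q).map Q.subtype :=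
          map_subtype_lt_map_subtype.2 h
      _ = Q := by rw [← MonoidHom.range_eq_map, range_subtype]
  have hND : normalizer (Q : Set X) ≤ normalizer ((⁅Q, Q⁆ : Subgroup X) : Set X) := by
    intro g hg
    rw [mem_normalizer_iff_tw] at hg ⊢
    rw [tw_eq, map_commutator, ← tw_eq, hg]
  have hKD : K ≤ centralizer ((⁅Q, Q⁆ : Subgroup X) : Set X) := by
    by_contra hcon2
    exact hDlt.not_ge (hmin ⟨hDlt.le.trans hQV, hND hxQ, hKQ.trans hND, hcon2⟩ hDlt.le)
  -- (4)
  set H : Subgroup X := ⨆ i : ℕ, tw (MulAut.conj (x ^ i)) K with hH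
  have hKH : K ≤ H := by
    have h1 : tw (MulAut.conj (x ^ 0)) K ≤ H := le_iSup (fun i : ℕ => tw (MulAut.conj (x ^ i)) K) 0
    rwa [pow_zero, map_one, tw_one] at h1
  have hxH : x ∈ normalizer (H : Set X) := by
    refine mem_normalizer_of ?_
    have h1 : H ≤ H.comap (MulAut.conj x).toMonoidHom := by
      conv_lhs => rw [hH]
      rw [iSup_le_iff]
      intro i
      rw [← map_le_iff_le_comap, ← tw_eq, ← tw_mul, ← map_mul, ← pow_succ']
      exact le_iSup (fun i : ℕ => tw (MulAut.conj (x ^ i)) K) (i + 1)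
    exact fun a ha => h1 ha
  have hHle : ∀ W : Subgroup X, K ≤ W → x ∈ normalizer (W : Set X) → H ≤ W := by
    intro W hKW hxW
    rw [hH, iSup_le_iff]
    intro i
    have h1 : x ^ i ∈ normalizer (W : Set X) := pow_mem hxW i
    rw [mem_normalizer_iff_tw] at h1
    rw [← h1]
    exact tw_mono _ hKW
  have hNC : ∀ W : Subgroup X, ∀ g ∈ normalizer (W : Set X), g ∈ normalizer (centralizer (W : Set X) : Set X) := by
    intro W g hg
    refine mem_normalizer_of fun c hc => ?_
    rw [mem_centralizer_iff]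
    intro l hl
    have h1 : g⁻¹ * l * g⁻¹⁻¹ ∈ W := (mem_normalizer_iff.1 (inv_mem hg) l).1 hl
    have h2 := mem_centralizer_iff.1 hc _ h1
    rw [inv_inv] at h2
    calc l * (g * c * g⁻¹) = g * ((g⁻¹ * l * g) * c) * g⁻¹ := by group
      _ = g * (c * (g⁻¹ * l * g)) * g⁻¹ := by rw [h2]
      _ = g * c * g⁻¹ * l := by group
  have hxNQ : x ∈ normalizer (normalizer (Q : Set X) : Set X) := le_normalizer hxQ
  have hHQ : H ≤ normalizer (Q : Set X) := hHle _ hKQ hxNQ
  have hHD : H ≤ centralizer ((⁅Q, Q⁆ : Subgroup X) : Set X) := hHle _ hKD (hNC _ x (hND hxQ))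
  set U : Subgroup X := Q ⊓ centralizer (H : Set X) with hU
  have hUQ : U ≤ Q := inf_le_left
  have hDU : ⁅Q, Q⁆ ≤ U := le_inf hDlt.le (le_centralizer_iff.1 hHD)
  have hQU : Q ≤ normalizer (U : Set X) := by
    intro q hq
    refine mem_normalizer_of fun u hu => ?_
    have h1 : ⁅q, u⁆ ∈ U := hDU (commutator_mem_commutator hq (hUQ hu))
    have h2 := U.mul_mem h1 hu
    rwa [commutatorElement_def, inv_mul_cancel_right] at h2
  have hxU : x ∈ normalizer (U : Set X) := by
    refine mem_normalizer_of fun u hu => ⟨(mem_normalizer_iff.1 hxQ u).1 hu.1, ?_⟩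
    exact (mem_normalizer_iff.1 (hNC _ x hxH) u).1 hu.2
  have hHU : H ≤ centralizer (U : Set X) := le_centralizer_iff.1 inf_le_right
  have hHNU : H ≤ normalizer (U : Set X) := hHU.trans (centralizer_le_normalizer _)
  -- (5)
  have hfix : ∀ v ∈ Q, x * v = v * x → v ∈ U := by
    intro v hv hxv
    refine ⟨hv, ?_⟩
    change v ∈ centralizer (H : Set X)
    have h1 : H ≤ centralizer {v} := by
      refine hHle _ ?_ ?_
      · intro k hk
        rw [mem_centralizer_singleton_iff]
        exact (c1 v (hQV hv) hxv k hk).symm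
      · apply le_normalizer
        rw [mem_centralizer_singleton_iff]
        exact hxv
    rw [mem_centralizer_iff]
    intro h hh
    exact mem_centralizer_singleton_iff.1 (h1 hh)
  -- (6)
  have key : ∀ S ≤ H, (∀ s ∈ S, x * s * x⁻¹ ∈ S) → Group.IsSolvable S → Odd (Nat.card S) → ¬ r ∣ Nat.card S →
      ¬ t ∣ Nat.card S → ∀ s ∈ S, ∀ v ∈ Q, ⁅⁅s, x⁆, v⁆ ∈ U := fun S hSH hxS hS1 hS2 hS3 hS4 =>
    section_lemma hr hr2 ht hxr hUQ hQU hxQ hxU (hSH.trans hHQ) (hSH.trans hHNU) hxS hQp hrQ hS1 hS2 hS3 hS4 hfix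
  let C : Subgroup X :=
    { carrier := {h | h ∈ H ∧ ∀ v ∈ Q, ⁅h, v⁆ ∈ U}
      one_mem' := ⟨H.one_mem, fun v _ => by rw [commutatorElement_one_left]; exact U.one_mem⟩
      mul_mem' := by
        rintro a b ⟨ha, ha'⟩ ⟨hb, hb'⟩
        refine ⟨H.mul_mem ha hb, fun v hv => ?_⟩
        have e : ⁅a * b, v⁆ = (a * ⁅b, v⁆ * a⁻¹) * ⁅a, v⁆ := by
          rw [commutatorElement_def, commutatorElement_def, commutatorElement_def]; group
        rw [e]
        exact U.mul_mem ((mem_normalizer_iff.1 (hHNU ha) _).1 (hb' v hv)) (ha' v hv)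
      inv_mem' := by
        rintro a ⟨ha, ha'⟩
        refine ⟨H.inv_mem ha, fun v hv => ?_⟩
        have e : ⁅a⁻¹, v⁆ = a⁻¹ * ⁅a, v⁆⁻¹ * a⁻¹⁻¹ := by
          rw [commutatorElement_def, commutatorElement_def]; group
        rw [e]
        exact (mem_normalizer_iff.1 (hHNU (H.inv_mem ha)) _).1 (U.inv_mem (ha' v hv)) }
  have hKC : K ≤ normalizer (C : Set X) := by
    intro k hk
    refine mem_normalizer_of ?_
    rintro c ⟨hc, hc'⟩
    refine ⟨H.mul_mem (H.mul_mem (hKH hk) hc) (H.inv_mem (hKH hk)), fun v hv => ?_⟩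
    have hv' : k⁻¹ * v * k⁻¹⁻¹ ∈ Q := (mem_normalizer_iff.1 (hKQ (K.inv_mem hk)) v).1 hv
    have e : ⁅k * c * k⁻¹, v⁆ = k * ⁅c, k⁻¹ * v * k⁻¹⁻¹⁆ * k⁻¹ := by
      rw [commutatorElement_def, commutatorElement_def]; group
    rw [e]
    exact (mem_normalizer_iff.1 (hHNU (hKH hk)) _).1 (hc' _ hv')
  have hCK : ∀ c ∈ K, c ∈ C → ∀ k ∈ K, c * k = k * c := by
    rcases quasisimple_normal hK _ (normal_subgroupOf_of_le_normalizer hKC) with h | h
    · exfalso
      have hKleC : K ≤ C := subgroupOf_eq_top.1 h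
      apply hKcQ
      have h1 : ⁅⁅Q, K⁆, K⁆ = ⊥ := by
        rw [eq_bot_iff]
        have h2 : ⁅Q, K⁆ ≤ U := by
          rw [commutator_comm, commutator_le]
          intro k hk v hv
          exact (hKleC hk).2 v hv
        refine (commutator_mono h2 le_rfl).trans ?_
        exact (commutator_eq_bot_iff_le_centralizer.2 (le_centralizer_iff.1 (hKH.trans hHU))).le
      have h2 := commutator_eq_bot_of_commutator_commutator_eq_bot hK.1 h1
      rw [commutator_comm, commutator_eq_bot_iff_le_centralizer] at h2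
      exact h2
    · intro c hc hcC k hk
      have h1 : (⟨c, hc⟩ : K) ∈ center K := h hcC
      exact (congrArg Subtype.val (mem_center_iff.1 h1 ⟨k, hk⟩)).symm
  by_cases hKx : tw (MulAut.conj x) K = K
  · -- (7) `x` normalises `K`
    obtain ⟨β, hβ⟩ := exists_restrict hKx
    have hβ1 : ∀ y : K, ((β y : K) : X) = x * y * x⁻¹ := by
      intro y
      have := hβ 1 y
      rwa [pow_one, pow_one] at this
    have hβr : β ^ r = 1 := by
      ext y
      rw [hβ, ← map_pow, hxr, map_one]; rfl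
    obtain ⟨s, hs, hs2, hst, T, hT, hTβ, y, hy, hyZ⟩ := invariant_lift hr
      ((Nat.Prime.coprime_iff_not_dvd hr).2 hrK).symm hK β hβr (by
        obtain ⟨k, hk, hkx⟩ := hnc
        refine ⟨⟨k, hk⟩, fun h => hkx ?_⟩
        have h1 := congrArg Subtype.val h
        rw [hβ1] at h1
        exact mul_inv_eq_iff_eq_mul.1 h1) hF3
    have hsf : Fact s.Prime := ⟨hs⟩
    set S := T.map K.subtype with hS
    have hSp : IsPGroup s S := hT.map _
    obtain ⟨n, hn⟩ := IsPGroup.iff_card.1 hSp
    have hSK : S ≤ K := map_subtype_le _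
    have h1 : ⁅((y : X))⁻¹, x⁆ ∈ C := by
      refine ⟨?_, key S (hSK.trans hKH) ?_ ?_ ?_ ?_ ?_ _ (S.inv_mem ⟨y, hy, rfl⟩)⟩
      · rw [commutatorElement_def, inv_inv]
        have e : ((y : X))⁻¹ * x * y * x⁻¹ = (y : X)⁻¹ * (x * y * x⁻¹) := by group
        rw [e, ← hβ1]
        exact H.mul_mem (H.inv_mem (hKH y.2)) (hKH (β y).2)
      · rintro _ ⟨z, hz, rfl⟩
        exact ⟨β z, hTβ z hz, hβ1 z⟩
      · have : Group.IsNilpotent S := hSp.isNilpotent
        infer_instance
      · rw [hn]; exact (hs.odd_of_ne_two hs2).pow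
      · exact fun h => hrK (h.trans (Subgroup.card_dvd_of_le hSK))
      · rw [hn]
        intro h
        exact hst ((Nat.prime_dvd_prime_iff_eq ht hs).1 (ht.dvd_of_dvd_pow h)).symm
    apply hyZ
    rw [mem_center_iff]
    intro k
    apply Subtype.ext
    have e : ⁅((y : X))⁻¹, x⁆ = ((y⁻¹ * β y : K) : X) := by
      rw [commutatorElement_def, inv_inv, Subgroup.coe_mul, hβ1, Subgroup.coe_inv]; group
    rw [e] at h1
    exact (hCK _ (y⁻¹ * β y).2 h1 k k.2).symm
  · -- (8) `x` moves `K`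
    have hdist : ∀ i, 0 < i → i < r → tw (MulAut.conj (x ^ i)) K ≤ centralizer (K : Set X) := by
      intro i hi hir
      have h1 := (hcommx i).resolve_left fun h => hKx (tw_fixed_of_pow hr (by rw [← map_pow, hxr, map_one]) hi hir
        (by rw [← map_pow]; exact h))
      rw [commutator_comm, commutator_eq_bot_iff_le_centralizer] at h1
      exact h1
    have hdist2 : ∀ i j, i < j → j < r →
        tw (MulAut.conj (x ^ j)) K ≤ centralizer (tw (MulAut.conj (x ^ i)) K : Set X) := by
      intro i j hij hjr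
      have h1 := hdist (j - i) (by omega) (by omega)
      have e : tw (MulAut.conj (x ^ j)) K = tw (MulAut.conj (x ^ i)) (tw (MulAut.conj (x ^ (j - i))) K) := by
        rw [← tw_mul, ← map_mul, ← pow_add]
        congr 3; omega
      rw [e]
      rintro _ ⟨y, hy, rfl⟩
      rw [mem_centralizer_iff]
      rintro _ ⟨z, hz, rfl⟩
      have h2 := mem_centralizer_iff.1 (h1 hy) z hz
      rw [← map_mul, h2, map_mul]
    -- Sylow subgroups of `K` for odd primes `≠ t` are central
    have hcent : ∀ s : ℕ, s.Prime → s ≠ 2 → s ≠ t → s ≠ r → ∀ T : Subgroup K, IsPGroup s T → T ≤ center K := by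
      intro s hs hs2 hst hsr T hT
      have hsf : Fact s.Prime := ⟨hs⟩
      set S₀ := T.map K.subtype with hS₀
      have hS₀K : S₀ ≤ K := map_subtype_le _
      set S : Subgroup X := ⨆ i : Fin r, tw (MulAut.conj (x ^ (i : ℕ))) S₀ with hS
      have hSp : IsPGroup s S := isPGroup_iSup_tw (hT.map _) hS₀K hdist2 r le_rfl
      obtain ⟨n, hn⟩ := IsPGroup.iff_card.1 hSp
      have hiS : ∀ i < r, tw (MulAut.conj (x ^ i)) S₀ ≤ S := fun i hi =>
        le_iSup (fun i : Fin r => tw (MulAut.conj (x ^ (i : ℕ))) S₀) ⟨i, hi⟩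
      have hS₀S : S₀ ≤ S := by
        have := hiS 0 hr.pos
        rwa [pow_zero, map_one, tw_one] at this
      have hSH : S ≤ H := by
        rw [hS, iSup_le_iff]
        intro i
        exact (tw_mono _ hS₀K).trans (le_iSup (fun i : ℕ => tw (MulAut.conj (x ^ i)) K) i)
      have hxS : ∀ z ∈ S, x * z * x⁻¹ ∈ S := by
        have h1 : S ≤ S.comap (MulAut.conj x).toMonoidHom := by
          conv_lhs => rw [hS]
          rw [iSup_le_iff]
          intro i
          rw [← map_le_iff_le_comap, ← tw_eq, ← tw_mul, ← map_mul, ← pow_succ']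
          rcases Nat.lt_or_ge ((i : ℕ) + 1) r with h | h
          · exact hiS _ h
          · have h2 : (i : ℕ) + 1 = r := by omega
            rw [h2, hxr, map_one, tw_one]
            exact hS₀S
        exact fun a ha => h1 ha
      have hkey := key S hSH hxS (by
        have : Group.IsNilpotent S := hSp.isNilpotent
        infer_instance) (by rw [hn]; exact (hs.odd_of_ne_two hs2).pow)
        (by
          rw [hn]
          intro h
          exact hsr ((Nat.prime_dvd_prime_iff_eq hr hs).1 (hr.dvd_of_dvd_pow h)).symm)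
        (by
          rw [hn]
          intro h
          exact hst ((Nat.prime_dvd_prime_iff_eq ht hs).1 (ht.dvd_of_dvd_pow h)).symm)
      -- `[S₀, K] ≤ Z(K)`
      have h1 : ∀ y ∈ S₀, ∀ k ∈ K, ⁅y, k⁆ ∈ C := by
        intro y hy k hk
        have hyC : ⁅y, x⁆ ∈ C := by
          refine ⟨?_, hkey y (hS₀S hy)⟩
          have e : ⁅y, x⁆ = y * (x * y⁻¹ * x⁻¹) := by rw [commutatorElement_def]; group
          rw [e]
          exact H.mul_mem (hSH (hS₀S hy)) ((mem_normalizer_iff.1 hxH _).1 (H.inv_mem (hSH (hS₀S hy))))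
        have h2 : (x * y⁻¹ * x⁻¹) * k = k * (x * y⁻¹ * x⁻¹) := by
          have h3 := hdist 1 one_pos hr.one_lt
          rw [pow_one] at h3
          exact (mem_centralizer_iff.1 (h3 (mem_tw_conj (K.inv_mem (hS₀K hy)))) k hk).symm
        have h3 : k * ⁅y, x⁆ * k⁻¹ ∈ C := (mem_normalizer_iff.1 (hKC hk) _).1 hyC
        have e : ⁅y, k⁆ = ⁅y, x⁆ * (k * ⁅y, x⁆ * k⁻¹)⁻¹ := by
          have e1 : ⁅y, x⁆ = y * (x * y⁻¹ * x⁻¹) := by rw [commutatorElement_def]; group
          have h4 : (x * y⁻¹ * x⁻¹) * k * (x * y⁻¹ * x⁻¹)⁻¹ = k := by rw [h2, mul_inv_cancel_right]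
          rw [e1, commutatorElement_def]
          calc y * k * y⁻¹ * k⁻¹ = y * ((x * y⁻¹ * x⁻¹) * k * (x * y⁻¹ * x⁻¹)⁻¹) * y⁻¹ * k⁻¹ := by rw [h4]
            _ = _ := by group
        rw [e]
        exact C.mul_mem hyC (C.inv_mem h3)
      have h2 : ⁅⁅S₀, K⁆, K⁆ = ⊥ := by
        have h3 : ⁅S₀, K⁆ ≤ K ⊓ centralizer (K : Set X) := by
          rw [commutator_le]
          intro y hy k hk
          have h4 : ⁅y, k⁆ ∈ K := by
            rw [commutatorElement_def]
            exact K.mul_mem (K.mul_mem (K.mul_mem (hS₀K hy) hk) (K.inv_mem (hS₀K hy))) (K.inv_mem hk)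
          refine ⟨h4, ?_⟩
          change ⁅y, k⁆ ∈ centralizer (K : Set X)
          rw [mem_centralizer_iff]
          intro z hz
          exact (hCK _ h4 (h1 y hy k hk) z hz).symm
        rw [eq_bot_iff]
        refine (commutator_mono (h3.trans inf_le_right) le_rfl).trans ?_
        rw [commutator_comm, (commutator_eq_bot_iff_le_centralizer).2 (le_centralizer_iff.1 le_rfl)]
      have h3 := commutator_eq_bot_of_commutator_commutator_eq_bot hK.1 h2
      rw [commutator_eq_bot_iff_le_centralizer] at h3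
      intro y hy
      rw [mem_center_iff]
      intro k
      apply Subtype.ext
      exact mem_centralizer_iff.1 (h3 ⟨y, hy, rfl⟩) k k.2
    -- Burnside
    set L := K ⧸ center K with hL
    have hprimes : ∀ s : ℕ, s.Prime → s ∣ Nat.card L → s = 2 ∨ s = t := by
      intro s hs hsL
      by_contra hcon2
      push Not at hcon2
      have hsf : Fact s.Prime := ⟨hs⟩
      have hLK : Nat.card L ∣ Nat.card K := Subgroup.card_quotient_dvd_card _
      have hsr : s ≠ r := by
        rintro rfl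
        exact hrK (hsL.trans hLK)
      obtain ⟨T⟩ : Nonempty (Sylow s K) := inferInstance
      have h1 := hcent s hs hcon2.1 hcon2.2 hsr T T.isPGroup'
      have h2 : Nat.card L ∣ (T : Subgroup K).index := Subgroup.index_dvd_of_le h1
      exact T.not_dvd_index (hsL.trans h2)
    have hsol : Group.IsSolvable L := by
      have hpos : Nat.card L ≠ 0 := Nat.card_pos.ne'
      obtain ⟨a, m, hm, ham⟩ := Nat.exists_eq_pow_mul_and_not_dvd hpos 2 (by norm_num)
      have hm0 : m ≠ 0 := by rintro rfl; exact hm (dvd_zero 2)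
      have h1 : m = t ^ m.primeFactorsList.length := by
        refine Nat.eq_prime_pow_of_unique_prime_dvd hm0 ?_
        intro d hd hdm
        rcases hprimes d hd (by rw [ham]; exact hdm.mul_left _) with h | h
        · exfalso; rw [h] at hdm; exact hm hdm
        · exact h
      exact S0144.result 2 t a m.primeFactorsList.length Nat.prime_two ht (by rw [ham]; congr 1)
    apply quasisimple_not_isSolvable hK
    have h1 : Group.IsSolvable (center K) := Group.isSolvable_of_comm fun a b => by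
      apply Subtype.ext
      exact (mem_center_iff.1 a.2 b).symm
    exact Group.isSolvable_of_ker_le_range (center K).subtype (QuotientGroup.mk' (center K)) (by
      rw [QuotientGroup.ker_mk', range_subtype])

end A

end Cfsg.Agent.H26.Lay
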