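import Cfsg.Agent.H26.LayIn

/-!
# Coprime automorphisms of prime order and quasisimple subgroups: main theorem
-/

set_option autoImplicit false

namespace Cfsg.Agent.H26.Lay

open Subgroup
open scoped commutatorElement
open Cfsg.Agent.SignalizersComponents.Components

theorem comm_eq {G : Type*} [Group G] {a b k l : G} (h1 : Commute (a⁻¹ * k) b) (h2 : Commute a (b⁻¹ * l))
    (h3 : Commute (a⁻¹ * k) (b⁻¹ * l)) : ⁅k, l⁆ = ⁅a, b⁆ := by
  obtain ⟨z, hz⟩ : ∃ z, a⁻¹ * k = z := ⟨_, rfl⟩
  obtain ⟨w, hw⟩ : ∃ w, b⁻¹ * l = w := ⟨_, rfl⟩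
  have e₁ : k = a * z := by rw [← hz]; group
  have e₂ : l = b * w := by rw [← hw]; group
  rw [hz] at h1 h3
  rw [hw] at h2 h3
  rw [e₁, e₂, commutatorElement_def, commutatorElement_def, mul_inv_rev, mul_inv_rev]
  calc a * z * (b * w) * (z⁻¹ * a⁻¹) * (w⁻¹ * b⁻¹)
      = a * (z * b) * (w * z⁻¹) * a⁻¹ * w⁻¹ * b⁻¹ := by group
    _ = a * (b * z) * (z⁻¹ * w) * a⁻¹ * w⁻¹ * b⁻¹ := by rw [h1.eq, (h3.symm.inv_right).eq]
    _ = a * b * (w * a⁻¹) * w⁻¹ * b⁻¹ := by group
    _ = a * b * (a⁻¹ * w) * w⁻¹ * b⁻¹ := by rw [(h2.symm.inv_right).eq]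
    _ = a * b * a⁻¹ * b⁻¹ := by group

variable {G : Type*} [Group G] [Finite G]

/-- Quasisimple subgroups of the layer. -/
theorem in_layer {r : ℕ} (hr : r.Prime) (hcop : (Nat.card G).Coprime r) {α : MulAut G} (hα : α ^ r = 1)
    {K : Subgroup G} (hK : IsQuasisimple K) (hKE : K ≤ layer G)
    (hcomm : ∀ c, α c = c → tw (MulAut.conj c) K = K ∨ ⁅K, tw (MulAut.conj c) K⁆ = ⊥)
    (hcommα : ∀ i : ℕ, tw (α ^ i) K = K ∨ ⁅K, tw (α ^ i) K⁆ = ⊥) (hnc : ∃ k ∈ K, α k ≠ k) :
    IsComponent K ∨ ∃ L : Subgroup G, IsComponent L ∧ tw α L = L ∧ K ≤ L := by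
  have hKp : ⁅K, K⁆ = K := by
    have := hK.1
    exact Subgroup.commutator_eq_self (H := K)
  -- a component not centralised by `K`
  obtain ⟨L, hL, hKL⟩ : ∃ L : Subgroup G, IsComponent L ∧ ¬ K ≤ centralizer (L : Set G) := by
    by_contra hcon
    push Not at hcon
    apply not_le_centralizer_self hK
    have h1 : layer G ≤ centralizer (K : Set G) := by
      rw [layer_le_iff]
      intro L hL
      rw [le_centralizer_iff]
      exact hcon L hL
    exact hKE.trans h1
  have hEL : layer G ≤ normalizer (L : Set G) := layer_le_normalizer_component hL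
  have hKN : K ≤ normalizer (L : Set G) := hKE.trans hEL
  by_cases hLα : tw α L = L
  · -- `α` fixes `L`
    right
    refine ⟨L, hL, hLα, ?_⟩
    by_contra hKL'
    apply hKL
    refine centralises_of_inner hr hcop hα hLα hKN hKp (fun k hk => exists_of_mem_layer hL (hKE hk)) ?_
    intro x hx hαx k hk
    exact ((le_or_centralises hK hKN hx (hcomm x hαx)).resolve_left hKL' k hk).symm
  left
  have hd := tw_le_centralizer hr hα hL hLα
  -- `K ≤ N`
  set N : Subgroup G := ⨆ i : Fin r, tw (α ^ (i : ℕ)) L with hN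
  have hiN : ∀ i < r, tw (α ^ i) L ≤ N := fun i hi => le_iSup (fun i : Fin r => tw (α ^ (i : ℕ)) L) ⟨i, hi⟩
  have hNE : N ≤ layer G := by
    rw [hN, iSup_le_iff]
    intro i
    exact component_le_layer (tw_component _ hL)
  have hLN : L ≤ N := by
    have := hiN 0 hr.pos
    rwa [pow_zero, tw_one] at this
  have hKNN : K ≤ normalizer (N : Set G) := by
    intro k hk
    refine mem_normalizer_of ?_
    intro a ha
    have h1 : N ≤ N.comap (MulAut.conj k).toMonoidHom := by
      conv_lhs => rw [hN]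
      rw [iSup_le_iff]
      intro i a ha
      have h2 : k ∈ normalizer (tw (α ^ (i : ℕ)) L : Set G) :=
        layer_le_normalizer_component (tw_component _ hL) (hKE hk)
      exact hiN i i.2 ((mem_normalizer_iff.1 h2 a).1 ha)
    exact h1 ha
  have hdgN : ∀ x ∈ L, dg α r x ∈ N := fun x hx => dg_mem fun i hi => hiN i hi (apply_mem_tw hx)
  have hKleN : K ≤ N := by
    by_contra hcon
    apply hKL
    refine centralises_of_diag hL.2.1 hKN fun x hx => ?_
    obtain ⟨c, hc, hdg, -⟩ := dg_eq hr.pos hd hx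
    refine ⟨c, hc, fun k hk => ?_⟩
    rw [← hdg]
    exact ((le_or_centralises hK hKNN (hdgN x hx) (hcomm _ (dg_fixed hr.pos hα hd hx))).resolve_left hcon k hk).symm
  obtain ⟨ha, hb⟩ := claim_one hr hα hKE hcomm hL hLα hKL
  by_cases hcase : ∀ i, 0 < i → i < r → K ≤ centralizer (tw (α ^ i) L : Set G)
  · -- `K = L`
    have hz : ∀ k ∈ K, ∃ l ∈ L, ∀ n ∈ N, n * (l⁻¹ * k) = (l⁻¹ * k) * n := by
      intro k hk
      obtain ⟨l, hl, hlk⟩ := exists_of_mem_layer hL (hKE hk)
      refine ⟨l, hl, ?_⟩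
      have h1 : N ≤ centralizer {l⁻¹ * k} := by
        rw [hN, iSup_le_iff]
        intro i x hx
        rw [mem_centralizer_singleton_iff]
        rcases Nat.eq_zero_or_pos (i : ℕ) with h | h
        · rw [h, pow_zero, tw_one] at hx
          exact mem_centralizer_iff.1 hlk x hx
        · have h2 := mem_centralizer_iff.1 (hcase i h i.2 hk) x hx
          have h3 : l * x = x * l := mem_centralizer_iff.1 (hd i h i.2 hx) l hl
          have h4 : x * l⁻¹ = l⁻¹ * x := by
            rw [eq_inv_mul_iff_mul_eq, ← mul_assoc, h3, mul_inv_cancel_right]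
          calc x * (l⁻¹ * k) = (x * l⁻¹) * k := by group
            _ = l⁻¹ * (x * k) := by rw [h4]; group
            _ = l⁻¹ * (k * x) := by rw [h2]
            _ = l⁻¹ * k * x := by group
      intro n hn
      exact mem_centralizer_singleton_iff.1 (h1 hn)
    have hKleL : K ≤ L := by
      rw [← hKp, commutator_le]
      intro k₁ hk₁ k₂ hk₂
      obtain ⟨l₁, hl₁, h₁⟩ := hz k₁ hk₁
      obtain ⟨l₂, hl₂, h₂⟩ := hz k₂ hk₂
      have hz₁N : l₁⁻¹ * k₁ ∈ N := N.mul_mem (N.inv_mem (hLN hl₁)) (hKleN hk₁)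
      have key : ⁅k₁, k₂⁆ = ⁅l₁, l₂⁆ :=
        comm_eq (h₁ _ (hLN hl₂) : l₂ * (l₁⁻¹ * k₁) = (l₁⁻¹ * k₁) * l₂).symm (h₂ _ (hLN hl₁)) (h₂ _ hz₁N)
      rw [key]
      exact commutator_mem_commutator hl₁ hl₂ |> fun h => by rwa [component_commutator_self hL] at h
    have hLleK : L ≤ K := by
      rw [← component_commutator_self hL, commutator_le]
      intro l₁ hl₁ l₂ hl₂
      obtain ⟨k₁, hk₁, h₁⟩ := ha l₁ hl₁
      obtain ⟨k₂, hk₂, h₂⟩ := ha l₂ hl₂
      have hz₁L : k₁⁻¹ * l₁ ∈ L := L.mul_mem (L.inv_mem (hKleL hk₁)) hl₁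
      have key : ⁅l₁, l₂⁆ = ⁅k₁, k₂⁆ :=
        comm_eq (mem_centralizer_iff.1 h₁ _ (hKleL hk₂) : k₂ * (k₁⁻¹ * l₁) = (k₁⁻¹ * l₁) * k₂).symm
          (mem_centralizer_iff.1 h₂ _ (hKleL hk₁)) (mem_centralizer_iff.1 h₂ _ hz₁L)
      rw [key]
      exact commutator_mem_commutator hk₁ hk₂ |> fun h => by rwa [hKp] at h
    rw [le_antisymm hKleL hLleK]
    exact hL
  · exfalso
    push Not at hcase
    obtain ⟨i, hi0, hir, hKM⟩ := hcase
    set M := tw (α ^ i) L with hMdef
    have hM : IsComponent M := tw_component _ hL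
    have hMα : tw α M ≠ M := by
      intro h
      apply hLα
      have h1 : tw (α ^ i) (tw α L) = tw (α ^ i) L := by
        rw [← tw_mul, ← pow_succ, pow_succ', tw_mul]; exact h
      have h3 : ∀ M : Subgroup G, tw (α ^ i)⁻¹ (tw (α ^ i) M) = M := by
        intro M
        rw [← tw_mul, inv_mul_cancel, tw_one]
      have h2 := congrArg (tw (α ^ i)⁻¹) h1
      rwa [h3, h3] at h2
    have hEM : layer G ≤ normalizer (M : Set G) := layer_le_normalizer_component hM
    obtain ⟨haM, -⟩ := claim_one hr hα hKE hcomm hM hMα hKM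
    -- `α` normalises `K`
    have hKi : tw (α ^ i) K = K := by
      refine (hcommα i).resolve_right fun h => ?_
      apply not_le_centralizer_self hM.2
      rw [commutator_eq_bot_iff_le_centralizer] at h
      rw [← component_commutator_self hM, commutator_le, component_commutator_self hM]
      intro x hx y hy
      obtain ⟨k, hk, hkx⟩ := haM x hx
      obtain ⟨y', hy', rfl⟩ := hy
      obtain ⟨l, hl, hly⟩ := ha y' hy'
      have h1 : ((α ^ i) l)⁻¹ * (α ^ i) y' ∈ centralizer (M : Set G) := by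
        rw [mem_centralizer_iff]
        rintro _ ⟨z, hz, rfl⟩
        have h2 := mem_centralizer_iff.1 hly z hz
        have h3 := congrArg (α ^ i) h2
        simp only [map_mul, map_inv] at h3
        exact h3
      have h2 : k * (α ^ i) l = (α ^ i) l * k := (mem_centralizer_iff.1 (h hk) _ (apply_mem_tw hl)).symm
      have hMN : M ≤ normalizer (M : Set G) := le_normalizer
      have hlE : (α ^ i) l ∈ layer G := by
        have h5 : layer G ≤ (layer G).comap (α ^ i).toMonoidHom := by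
          rw [← map_le_iff_le_comap]
          exact map_equiv_layer_le (α ^ i)
        exact h5 (hKE hl)
      have h4 := comm_mem_centralizer (hMN hx) (hMN (apply_mem_tw hy')) (hEM (hKE hk)) (hEM hlE) hkx h1 h2
      exact h4
    have hKα : tw α K = K := tw_fixed_of_pow hr hα hi0 hir hKi
    -- the fixed points
    let F : Subgroup G :=
      { carrier := {x | x ∈ K ∧ α x = x}
        one_mem' := ⟨K.one_mem, map_one α⟩
        mul_mem' := by
          rintro a b ⟨ha, ha'⟩ ⟨hb, hb'⟩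
          exact ⟨K.mul_mem ha hb, by rw [map_mul, ha', hb']⟩
        inv_mem' := by
          rintro a ⟨ha, ha'⟩
          exact ⟨K.inv_mem ha, by rw [map_inv, ha']⟩ }
    have hFK : F ≤ K := fun x hx => hx.1
    have hFN : F ≤ normalizer (L : Set G) := hFK.trans hKN
    set P := proj L F hFN with hP
    have hPL : P ≤ L := fun x hx => hx.1
    have hLP : L ≤ normalizer (P : Set G) := by
      intro l hl
      refine mem_normalizer_of ?_
      rintro x ⟨hx, f, hf, hfx⟩
      refine ⟨L.mul_mem (L.mul_mem hl hx) (L.inv_mem hl), dg α r l * f * (dg α r l)⁻¹, ⟨?_, ?_⟩, ?_⟩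
      · have h1 := mem_tw_conj (g := dg α r l) hf.1
        rwa [hb l hl] at h1
      · rw [map_mul, map_mul, map_inv, dg_fixed hr.pos hα hd hl, hf.2]
      · obtain ⟨c, hc, hdg, -⟩ := dg_eq hr.pos hd hl
        have h1 := mem_centralizer_iff.1 hc x hx
        have hdN : dg α r l ∈ normalizer (L : Set G) := by
          rw [hdg]
          exact mul_mem (le_normalizer hl) ((centralizer_le_normalizer _) hc)
        have e1 : l * x * l⁻¹ = dg α r l * x * (dg α r l)⁻¹ := by
          rw [hdg]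
          calc l * x * l⁻¹ = l * (x * c) * c⁻¹ * l⁻¹ := by group
            _ = l * (c * x) * c⁻¹ * l⁻¹ := by rw [h1]
            _ = _ := by group
        rw [e1]
        have e : (dg α r l * f * (dg α r l)⁻¹)⁻¹ * (dg α r l * x * (dg α r l)⁻¹) =
            dg α r l * (f⁻¹ * x) * (dg α r l)⁻¹ := by group
        rw [e]
        exact conj_mem_centralizer hdN hfx
    -- `C_K(L)` is central in `K`
    have hCK : ∀ c ∈ K, c ∈ centralizer (L : Set G) → ∀ k ∈ K, c * k = k * c := by
      have hn : K ≤ normalizer (centralizer (L : Set G) : Set G) := by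
        intro k hk
        exact mem_normalizer_of fun a ha => conj_mem_centralizer (hKN hk) ha
      rcases quasisimple_normal hK _ (normal_subgroupOf_of_le_normalizer hn) with h | h
      · exact absurd (subgroupOf_eq_top.1 h) hKL
      · intro c hc hcL k hk
        have h1 : (⟨c, hc⟩ : K) ∈ center K := h hcL
        exact (congrArg Subtype.val (mem_center_iff.1 h1 ⟨k, hk⟩)).symm
    by_cases hPC : P ≤ centralizer (L : Set G)
    · -- fixed points central: `K` nilpotent
      apply quasisimple_not_isSolvable hK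
      have : Group.IsNilpotent K := by
        refine nilpotent_subgroup hr hcop hα hKα fun x hx hαx y hy => ?_
        refine hCK x hx ?_ y hy
        obtain ⟨l, hl, hlx⟩ := exists_of_mem_layer hL (hKE hx)
        have h1 : l ∈ P := by
          refine ⟨hl, x, ⟨hx, hαx⟩, ?_⟩
          have := inv_mem hlx
          rwa [mul_inv_rev, inv_inv] at this
        have h2 := mul_mem (hPC h1) hlx
        rwa [mul_inv_cancel_left] at h2
      infer_instance
    · have hPeq := eq_of_normal hL.2 hPL hLP hPC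
      -- `K = F Z(K)`
      have hKF : K ≤ F := by
        rw [← hKp, commutator_le]
        have key : ∀ k ∈ K, ∃ f ∈ F, ∀ x ∈ K, (f⁻¹ * k) * x = x * (f⁻¹ * k) := by
          intro k hk
          obtain ⟨l, hl, hlk⟩ := exists_of_mem_layer hL (hKE hk)
          rw [← hPeq] at hl
          obtain ⟨-, f, hf, hfl⟩ := hl
          refine ⟨f, hf, fun x hx => hCK _ (K.mul_mem (K.inv_mem (hFK hf)) hk) ?_ x hx⟩
          have e : f⁻¹ * k = (f⁻¹ * l) * (l⁻¹ * k) := by group
          rw [e]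
          exact mul_mem hfl hlk
        intro k₁ hk₁ k₂ hk₂
        obtain ⟨f₁, hf₁, h₁⟩ := key k₁ hk₁
        obtain ⟨f₂, hf₂, h₂⟩ := key k₂ hk₂
        have hz₁K : f₁⁻¹ * k₁ ∈ K := K.mul_mem (K.inv_mem (hFK hf₁)) hk₁
        have e3 : ⁅k₁, k₂⁆ = ⁅f₁, f₂⁆ :=
          comm_eq (h₁ _ (hFK hf₂)) (h₂ _ (hFK hf₁) : (f₂⁻¹ * k₂) * f₁ = f₁ * (f₂⁻¹ * k₂)).symm
            (h₂ _ hz₁K : (f₂⁻¹ * k₂) * (f₁⁻¹ * k₁) = (f₁⁻¹ * k₁) * (f₂⁻¹ * k₂)).symm
        rw [e3, commutatorElement_def]
        exact F.mul_mem (F.mul_mem (F.mul_mem hf₁ hf₂) (F.inv_mem hf₁)) (F.inv_mem hf₂)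
      obtain ⟨k, hk, hkα⟩ := hnc
      exact hkα (hKF hk).2

end Cfsg.Agent.H26.Lay
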