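import Cfsg.Agent.H26.LayAct
import Cfsg.Agent.PLocal.QuadraticSection

/-!
# Coprime automorphisms of prime order and components: quasisimple subgroups outside the layer
-/

set_option autoImplicit false

namespace Cfsg.Agent.H26.Lay

open Subgroup
open scoped commutatorElement
open Cfsg.Agent.SignalizersComponents.Components
open Cfsg.Agent.PLocal.QuadraticSection (quotientAction quotientAction_mk)

section Schreier

variable {G : Type*} [Group G]

/-- A perfect group normalising the quasisimple group `L` acts on `L` by inner automorphisms. -/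
theorem inner_of_sch {L K : Subgroup G} (hL : IsQuasisimple L) (hS : Schreier.Basic.Sch (L ⧸ center L))
    (hKL : K ≤ normalizer (L : Set G)) (hKp : ⁅K, K⁆ = K) :
    ∀ k ∈ K, ∃ l ∈ L, l⁻¹ * k ∈ centralizer (L : Set G) := by
  let A : normalizer (L : Set G) →* MulAut L := L.normalizerMonoidHom
  have hA : ∀ (g : normalizer (L : Set G)) (x : L), ((A g x : L) : G) = g * x * (g : G)⁻¹ := fun _ _ => rfl
  have hN : ∀ g, ∀ x ∈ center L, A g x ∈ center L := by
    intro g x hx
    have h1 : (center L).map (A g).toMonoidHom ≤ center L :=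
      (characteristic_iff_map_le.1 (inferInstance : (center L).Characteristic)) (A g)
    exact h1 ⟨x, hx, rfl⟩
  let B : normalizer (L : Set G) →* MulAut (L ⧸ center L) := quotientAction A (center L) hN
  have hB : ∀ (g : normalizer (L : Set G)) (x : L), B g (x : L ⧸ center L) = ((A g x : L) : L ⧸ center L) :=
    fun g x => quotientAction_mk A _ hN g x
  have hp : ⁅(K.subgroupOf (normalizer (L : Set G))).map B, (K.subgroupOf (normalizer (L : Set G))).map B⁆ =
      (K.subgroupOf (normalizer (L : Set G))).map B := by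
    apply Schreier.Basic.map_perfect
    apply Subgroup.map_injective (normalizer (L : Set G)).subtype_injective
    rw [map_commutator, subgroupOf_map_subtype, inf_eq_left.2 hKL, hKp]
  have hrange := hS _ hp
  intro k hk
  obtain ⟨q, hq⟩ := hrange ⟨⟨k, hKL hk⟩, hk, rfl⟩
  obtain ⟨l, rfl⟩ := QuotientGroup.mk_surjective q
  refine ⟨l, l.2, ?_⟩
  have hlN : (l : G) ∈ normalizer (L : Set G) := le_normalizer l.2
  set g : normalizer (L : Set G) := ⟨l, hlN⟩⁻¹ * ⟨k, hKL hk⟩ with hg
  have hBl : B ⟨l, hlN⟩ = MulAut.conj ((l : L) : L ⧸ center L) := by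
    ext x
    obtain ⟨x, rfl⟩ := QuotientGroup.mk_surjective x
    rw [hB, MulAut.conj_apply, ← QuotientGroup.mk_mul, ← QuotientGroup.mk_inv, ← QuotientGroup.mk_mul]
    rfl
  have hBg : B g = 1 := by
    rw [hg, map_mul, map_inv, hBl, inv_mul_eq_one]
    exact hq
  have h1 : ⁅(zpowers g).map (normalizer (L : Set G)).subtype, L⁆ ≤ (center L).map L.subtype := by
    rw [commutator_le]
    rintro _ ⟨z, hz, rfl⟩ x hx
    obtain ⟨n, rfl⟩ := mem_zpowers_iff.1 hz
    have h2 : B (g ^ n) = 1 := by rw [map_zpow, hBg, one_zpow]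
    have h3 := hB (g ^ n) ⟨x, hx⟩
    rw [h2, MulAut.one_apply, eq_comm, QuotientGroup.eq] at h3
    refine ⟨⟨x, hx⟩ * ((A (g ^ n) ⟨x, hx⟩)⁻¹ * ⟨x, hx⟩)⁻¹ * ⟨x, hx⟩⁻¹, ?_, ?_⟩
    · exact (inferInstance : (center L).Normal).conj_mem _ (inv_mem h3) _
    · rw [mul_inv_rev, inv_inv, mul_inv_cancel_left, commutatorElement_def]
      rfl
  have h2 : ⁅⁅(zpowers g).map (normalizer (L : Set G)).subtype, L⁆, L⁆ = ⊥ := by
    rw [eq_bot_iff]
    refine (commutator_mono h1 le_rfl).trans ?_
    rw [commutator_le]
    rintro _ ⟨z, hz, rfl⟩ x hx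
    rw [mem_bot, commutatorElement_eq_one_iff_mul_comm]
    exact (congrArg Subtype.val (mem_center_iff.1 hz ⟨x, hx⟩)).symm
  have h3 := commutator_eq_bot_of_commutator_commutator_eq_bot hL.1 h2
  rw [commutator_eq_bot_iff_le_centralizer] at h3
  exact h3 ⟨g, mem_zpowers g, rfl⟩

end Schreier

section Layer

variable {G : Type*} [Group G] [Finite G]

/-- **Inside the layer.** -/
theorem le_layer {r : ℕ} (hr : r.Prime) (hcop : (Nat.card G).Coprime r) {α : MulAut G} (hα : α ^ r = 1)
    {K : Subgroup G} (hK : IsQuasisimple K)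
    (hcomm : ∀ c, α c = c → tw (MulAut.conj c) K = K ∨ ⁅K, tw (MulAut.conj c) K⁆ = ⊥)
    (hF : K ≤ centralizer (fittingSubgroup G : Set G))
    (hSch : ∀ L : Subgroup G, IsComponent L → Schreier.Basic.Sch (L ⧸ center L)) : K ≤ layer G := by
  by_contra hKE
  have hKp : ⁅K, K⁆ = K := by
    have := hK.1
    exact Subgroup.commutator_eq_self (H := K)
  have hEn : (layer G).Normal := layer_normal G
  have hKnE : K ≤ normalizer (layer G : Set G) := by rw [normalizer_eq_top_iff.2 hEn]; exact le_top
  have h1 : ∀ d ∈ layer G, α d = d → ∀ k ∈ K, d * k = k * d := by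
    intro d hd hαd
    exact (le_or_centralises hK hKnE hd (hcomm d hαd)).resolve_left hKE
  have h2 : layer G ≤ centralizer (K : Set G) := by
    rw [layer_le_iff]
    intro L hL
    rw [le_centralizer_iff]
    have hLE : L ≤ layer G := component_le_layer hL
    by_cases hLα : tw α L = L
    · -- `α` fixes `L`
      have hfix : ∀ x ∈ L, α x = x → ∀ k ∈ K, k * x = x * k := fun x hx hαx k hk =>
        (h1 x (hLE hx) hαx k hk).symm
      have hKL : K ≤ normalizer (L : Set G) := by
        intro k hk
        rw [mem_normalizer_iff_tw]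
        by_contra hne
        have hM : IsComponent (tw (MulAut.conj k) L) := tw_component _ hL
        have hcent := component_le_centralizer_of_ne hM hL hne
        apply quasisimple_not_isSolvable hL.2
        have : Group.IsNilpotent L := by
          refine nilpotent_subgroup hr hcop hα hLα fun x hx hαx y hy => ?_
          have h3 : x ∈ tw (MulAut.conj k) L := by
            have h4 := mem_tw_conj (g := k) hx
            rwa [hfix x hx hαx k hk, mul_inv_cancel_right] at h4
          exact (mem_centralizer_iff.1 (hcent h3) y hy).symm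
        infer_instance
      exact centralises_of_inner hr hcop hα hLα hKL hKp (inner_of_sch hL.2 (hSch L hL) hKL hKp) hfix
    · -- `α` moves `L`
      have hd := tw_le_centralizer hr hα hL hLα
      have hdgE : ∀ x ∈ L, dg α r x ∈ layer G := by
        intro x hx
        refine dg_mem fun i _ => ?_
        exact component_le_layer (tw_component (α ^ i) hL) (apply_mem_tw hx)
      have hdgc : ∀ x ∈ L, ∀ k ∈ K, k * dg α r x = dg α r x * k := fun x hx k hk =>
        (h1 _ (hdgE x hx) (dg_fixed hr.pos hα hd hx) k hk).symm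
      have hKL : K ≤ normalizer (L : Set G) := fun k hk =>
        mem_normalizer_of_comm_dg hr hcop hα hL hLα fun x hx => hdgc x hx k hk
      refine centralises_of_diag hL.2.1 hKL fun x hx => ?_
      obtain ⟨c, hc, hdg, -⟩ := dg_eq hr.pos hd hx
      refine ⟨c, hc, fun k hk => ?_⟩
      rw [← hdg]
      exact hdgc x hx k hk
  have h3 : K ≤ centralizer (generalizedFittingSubgroup G : Set G) := by
    rw [le_centralizer_iff]
    refine sup_le h2 ?_
    rw [le_centralizer_iff]
    exact hF
  have h4 : K ≤ generalizedFittingSubgroup G := h3.trans Lib.GenFitting.centralizer_genFitting_le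
  apply quasisimple_not_isMulCommutative hK
  exact ⟨⟨fun a b => Subtype.ext (mem_centralizer_iff.1 (h3 b.2) a (h4 a.2))⟩⟩

end Layer

end Cfsg.Agent.H26.Lay
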