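import Mathlib

/-!
# A family of subgroups of a nilpotent group with a normalised member
-/

set_option autoImplicit false

namespace Cfsg.Agent.H26.LimitGroup

open Subgroup

variable {G : Type*} [Group G] [Finite G]

theorem mem_normalizer_of {A : Subgroup G} {g : G} (h : ∀ a ∈ A, g * a * g⁻¹ ∈ A) :
    g ∈ normalizer (A : Set G) := by
  have h1 : A.map (MulAut.conj g).toMonoidHom ≤ A := by
    rintro _ ⟨a, ha, rfl⟩
    exact h a ha
  have h2 : Nat.card (A.map (MulAut.conj g).toMonoidHom) = Nat.card A :=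
    (Nat.card_congr (A.equivMapOfInjective _ (MulAut.conj g).injective).toEquiv).symm
  have h3 : A.map (MulAut.conj g).toMonoidHom = A := Subgroup.eq_of_le_of_card_ge h1 h2.ge
  rw [mem_normalizer_iff]
  intro x
  refine ⟨h x, fun hx => ?_⟩
  have h4 : g * x * g⁻¹ ∈ A.map (MulAut.conj g).toMonoidHom := by rw [h3]; exact hx
  obtain ⟨a, ha, hax⟩ := h4
  have h5 : a = x := (MulAut.conj g).injective hax
  rwa [← h5]

theorem exists_normalised [Group.IsNilpotent G] (O : Set (Subgroup G)) (hne : O.Nonempty)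
    (hconj : ∀ A ∈ O, ∀ g : G, A.map (MulAut.conj g).toMonoidHom ∈ O)
    (step : ∀ T A B : Subgroup G, A ∈ O → B ∈ O → A ≤ T → T ≤ normalizer (A : Set G) →
      T = sSup {D | D ∈ O ∧ D ≤ T} → B ≤ normalizer (T : Set G) → ∀ b ∈ B, ∃ A' ∈ O, A' ≤ T ∧
        T ≤ normalizer (A' : Set G) ∧ b ∈ normalizer (A' : Set G) ∧
        B ⊓ normalizer (A : Set G) ≤ normalizer (A' : Set G)) :
    ∃ A ∈ O, ∀ D ∈ O, D ≤ normalizer (A : Set G) := by
  classical
  set TT : Subgroup G → Subgroup G := fun A => sSup {D | D ∈ O ∧ D ≤ normalizer (A : Set G)} with hTT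
  have hTTn : ∀ A : Subgroup G, TT A ≤ normalizer (A : Set G) := fun A => sSup_le fun D hD => hD.2
  have hTTm : ∀ A D : Subgroup G, D ∈ O → D ≤ normalizer (A : Set G) → D ≤ TT A := fun A D h1 h2 => le_sSup ⟨h1, h2⟩
  have : Nonempty O := hne.to_subtype
  obtain ⟨⟨A, hA⟩, hAmax⟩ := Finite.exists_max (fun A : O => Nat.card (TT A))
  set T := TT A with hT
  have hTgen : T = sSup {D | D ∈ O ∧ D ≤ T} := by
    refine le_antisymm (sSup_le fun D hD => le_sSup ⟨hD.1, hTTm A D hD.1 hD.2⟩) (sSup_le fun D hD => hD.2)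
  by_cases hall : ∀ D ∈ O, D ≤ T
  · exact ⟨A, hA, fun D hD => (hall D hD).trans (hTTn A)⟩
  exfalso
  obtain ⟨B, hB, hBN, hBT⟩ : ∃ B ∈ O, B ≤ normalizer (T : Set G) ∧ ¬ B ≤ T := by
    by_contra hcon
    push Not at hcon
    apply hall
    have htop : normalizer (T : Set G) = ⊤ := by
      by_contra hne
      have h1 := Group.normalizerCondition_of_isNilpotent (G := G) (normalizer (T : Set G)) (lt_top_iff_ne_top.2 hne)
      apply h1.not_ge
      intro g hg
      apply mem_normalizer_of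
      have h2 : T ≤ T.comap (MulAut.conj g).toMonoidHom := by
        conv_lhs => rw [hTgen]
        refine sSup_le fun D hD => ?_
        rw [← map_le_iff_le_comap]
        refine hcon _ (hconj D hD.1 g) ?_
        rintro _ ⟨d, hd, rfl⟩
        exact (mem_normalizer_iff.1 hg d).1 (le_normalizer (hD.2 hd))
      intro a ha
      exact h2 ha
    intro D hD
    exact hcon D hD (by rw [htop]; exact le_top)
  -- maximise the normaliser in `B`
  let O' : Set (Subgroup G) := {A' | A' ∈ O ∧ A' ≤ T ∧ T ≤ normalizer (A' : Set G)}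
  have hAO' : A ∈ O' := ⟨hA, hTTm A A hA le_normalizer, hTTn A⟩
  have : Nonempty O' := ⟨⟨A, hAO'⟩⟩
  obtain ⟨⟨A', hA'⟩, hA'max⟩ := Finite.exists_max
    (fun A' : O' => Nat.card (B ⊓ normalizer ((A' : Subgroup G) : Set G) : Subgroup G))
  have hTA' : TT A' = T := by
    have h1 : T ≤ TT A' := by
      conv_lhs => rw [hTgen]
      exact sSup_le fun D hD => hTTm A' D hD.1 (hD.2.trans hA'.2.2)
    exact (Subgroup.eq_of_le_of_card_ge h1 (hAmax ⟨A', hA'.1⟩)).symm
  have hBA' : ¬ B ≤ normalizer (A' : Set G) := by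
    intro h
    apply hBT
    rw [← hTA']
    exact hTTm A' B hB h
  obtain ⟨b, hb, hbA'⟩ := SetLike.not_le_iff_exists.1 hBA'
  obtain ⟨A'', hA''O, hA''T, hTA'', hbA'', hBA''⟩ := step T A' B hA'.1 hB hA'.2.1 hA'.2.2 hTgen hBN b hb
  have h1 := hA'max ⟨A'', hA''O, hA''T, hTA''⟩
  have h2 : B ⊓ normalizer (A' : Set G) ≤ B ⊓ normalizer (A'' : Set G) := le_inf inf_le_left hBA''
  have h3 := Subgroup.eq_of_le_of_card_ge h2 h1
  apply hbA'
  have h4 : b ∈ B ⊓ normalizer (A'' : Set G) := ⟨hb, hbA''⟩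
  rw [← h3] at h4
  exact h4.2

end Cfsg.Agent.H26.LimitGroup
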