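import Cfsg.Agent.H25.S30Quad
import Cfsg.Agent.H264.CoverOver
import Cfsg.Agent.S1152
import Cfsg.Agent.S1157
import Cfsg.Agent.S1163
import Cfsg.Agent.S2111
import Cfsg.Agent.S2112
import Cfsg.Agent.S2113

/-!
# Quadratic elements and the Suzuki and Ree groups (S1930)

`qd_suzuki`, `qd_ree`: there is no quadratic element (in characteristic `p > 3`) in a perfect central extension of
a Suzuki or a Ree group with a kernel prime to `p`.
-/

set_option autoImplicit false

namespace Cfsg.Agent.H26.QDRank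

open Subgroup Cfsg

universe u v w

variable {p : ℕ} [hp : Fact p.Prime] {L : Type u} [Group L] [Finite L] {V : Type v} [AddCommGroup V]
  [Module (ZMod p) V] [Finite V] {K : Type w} [Group K]
  {ρ : L →* Module.End (ZMod p) V} {π : L →* K} {y : L}

theorem three_dvd_or (h : H25.S30.QD ρ π y) (hp2 : p ≠ 2) [IsSimpleGroup K] (hne : π y ≠ 1) :
    3 ∣ Nat.card K ∨ 3 ∣ Nat.card π.ker := by
  have h1 := h.three_dvd hp2 hne
  rw [H264.CoverOver.card_eq_of_surj h.surj] at h1
  exact (Nat.Prime.dvd_mul Nat.prime_three).1 h1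

theorem three_sz (m : ℕ) : ¬ 3 ∣ (2 ^ (2 * m + 1)) ^ 2 * (2 ^ (2 * m + 1) - 1) * ((2 ^ (2 * m + 1)) ^ 2 + 1) := by
  have h1 : (2 ^ (2 * m + 1)) % 3 = 2 := by
    rw [pow_add, pow_mul, Nat.mul_mod, Nat.pow_mod]
    norm_num
  have h0 : 1 ≤ 2 ^ (2 * m + 1) := Nat.one_le_two_pow
  generalize hq : 2 ^ (2 * m + 1) = q at h1 h0
  intro hd
  have h2 : q = 3 * (q / 3) + 2 := by omega
  generalize hk : q / 3 = k at h2
  subst h2
  rw [Nat.prime_three.dvd_mul, Nat.prime_three.dvd_mul] at hd
  rcases hd with (hd | hd) | hd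
  · have := Nat.prime_three.dvd_of_dvd_pow hd
    omega
  · omega
  · have h3 : (3 * k + 2) ^ 2 + 1 = 3 * (3 * k ^ 2 + 4 * k + 1) + 2 := by ring
    omega

omit [Finite L] [Finite V] in
theorem ker_dvd {T : Type*} [Group T] {A : Type*} [CommGroup A] (h : H25.S30.QD ρ π y) (e : K ≃* T)
    (hA : HasSchurMultiplier T A) : Nat.card π.ker ∣ Nat.card A := by
  have h1 : (e.toMonoidHom.comp π).ker = π.ker := by
    ext x
    rw [MonoidHom.mem_ker, MonoidHom.mem_ker, MonoidHom.comp_apply]
    exact map_eq_one_iff _ e.injective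
  have h2 := H264.CoverOver.card_ker_dvd hA h.perf (e.toMonoidHom.comp π) (e.surjective.comp h.surj)
    (by rw [h1]; exact h.cen)
  rwa [h1] at h2

/-- no quadratic element in (a central extension of) a Suzuki group -/
theorem qd_suzuki (h : H25.S30.QD ρ π y) (hp2 : p ≠ 2) [IsSimpleGroup K] (hK : Lie.IsoSuzuki K) : π y = 1 := by
  by_contra hne
  obtain ⟨F, i1, i2, m, hm, hF, ⟨e⟩⟩ := hK
  rcases three_dvd_or h hp2 hne with h3 | h3
  · rw [Nat.card_congr e.toEquiv, (S1163.result hm hF).1] at h3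
    exact three_sz m h3
  · rcases (show m = 1 ∨ 2 ≤ m by omega) with rfl | hm2
    · have h4 := h3.trans (ker_dvd h e (S2112.result (F := F) (by rw [hF]; norm_num)))
      rw [Nat.card_congr (Multiplicative.toAdd (α := ZMod 2 × ZMod 2)), Nat.card_prod, Nat.card_zmod] at h4
      omega
    · have h4 := h3.trans (ker_dvd h e (S2111.result hm2 hF))
      rw [Nat.card_congr (Multiplicative.toAdd (α := ZMod 1)), Nat.card_zmod] at h4
      omega

/-- no quadratic element in (a central extension of) a Ree group of type `G₂` -/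
theorem qd_ree (h : H25.S30.QD ρ π y) (hp3 : 3 < p) [IsSimpleGroup K] (hK : Lie.IsoRee K) : π y = 1 := by
  by_contra hne
  have h2p : Fact (Nat.Prime 2) := ⟨Nat.prime_two⟩
  obtain ⟨F, i1, i2, m, hm, hF, ⟨e⟩⟩ := hK
  have hfinK : Finite K := Finite.of_surjective π h.surj
  have hfin : Finite ↥(Cfsg.Lie.twistedG2 F (3 ^ m)) := Finite.of_equiv K e.toEquiv
  have h1 := ker_dvd h e (S2113.result hm hF)
  rw [Nat.card_congr (Multiplicative.toAdd (α := ZMod 1)), Nat.card_zmod, Nat.dvd_one] at h1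
  have hinj : Function.Injective π := (MonoidHom.ker_eq_bot_iff π).1 (Subgroup.eq_bot_of_card_eq _ h1)
  obtain ⟨a, haH, ha1, ha2⟩ := S1157.exists_involution hF
  have hS := (S1152.result hF a haH ha1 ha2).2
  have hsq : ∀ T : Subgroup ↥(Cfsg.Lie.twistedG2 F (3 ^ m)), IsPGroup 2 T → ∀ x ∈ T, x * x = 1 := by
    intro T hT x hx
    obtain ⟨S, hle⟩ := hT.exists_le_sylow
    exact (hS S).2 x (hle hx)
  have hinj' : Function.Injective (e.toMonoidHom.comp π) := e.injective.comp hinj
  refine h.sylow_two hp3 hne ?_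
  intro T hT x hx z hz
  apply hinj'
  have hq : ∀ x ∈ T.map (e.toMonoidHom.comp π), x * x = 1 := hsq _ (hT.map _)
  have hx' := hq _ (mem_map_of_mem (e.toMonoidHom.comp π) hx)
  have hz' := hq _ (mem_map_of_mem (e.toMonoidHom.comp π) hz)
  have hxz := hq _ (mul_mem (mem_map_of_mem (e.toMonoidHom.comp π) hx) (mem_map_of_mem (e.toMonoidHom.comp π) hz))
  rw [map_mul, map_mul]
  generalize (e.toMonoidHom.comp π) x = a at *
  generalize (e.toMonoidHom.comp π) z = b at *
  calc a * b = a * (a * b * (a * b)) * b := by rw [hxz, mul_one]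
    _ = (a * a) * (b * a) * (b * b) := by group
    _ = b * a := by rw [hx', hz', one_mul, mul_one]

end Cfsg.Agent.H26.QDRank
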