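import Cfsg.Agent.H26.UFLin
import Cfsg.Agent.S2186

/-!
# `UF` for the Chevalley groups and their twisted forms (helper26, for S1930)
-/

set_option autoImplicit false

namespace Cfsg.Agent.H26.UFChev

open Cfsg Cfsg.Lie Cfsg.Agent.ChevalleyStructure.Elts Cfsg.Agent.ChevalleyStructure.RootCombGood
  Cfsg.Agent.ChevalleyStructure.RootWord Cfsg.Agent.ChevalleyStructure.BruhatSplit
open Cfsg.Agent.S2186 (Dat exists_pos_word exists_acts_of_word isPGroup_of_conj borel_conj)
open Cfsg.Agent.ChevalleyStructure.SL2Hom (up lo)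
open Cfsg.Agent.H25.UFDef Cfsg.Agent.H26.UFix Cfsg.Agent.H26.UFLin Cfsg.Agent.H531 Cfsg.Agent.H531.RMChev
open Matrix (SpecialLinearGroup)

universe u v

/-- Criterion: the pairs are `l`-groups or lie in a subgroup where `u` is isolated. -/
theorem iso_of_local {l : ℕ} (hl : l.Prime) {K : Type*} [Group K] {x : K} {k : ℕ}
    (hu : x ^ l ^ k = 1)
    (h : ∀ g : K, IsPGroup l (Subgroup.closure ({x, g * x * g⁻¹} : Set K)) ∨
      ∃ (L : Subgroup K) (hx : x ∈ L), g * x * g⁻¹ ∈ L ∧ Iso l (⟨x, hx⟩ : L)) : Iso l x := by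
  intro p hp hp2 hpl P hP hn g hg
  set s := g * x * g⁻¹ with hs
  have h3 : x * s⁻¹ = (x * g * x⁻¹) * g⁻¹ := by rw [hs]; group
  have h4 : x * s⁻¹ ∈ P := by rw [h3]; exact mul_mem (hn g hg) (inv_mem hg)
  have main : x * s⁻¹ = 1 := by
    obtain ⟨b, hb⟩ := hP ⟨_, h4⟩
    have hb' : (x * s⁻¹) ^ p ^ b = 1 := congrArg Subtype.val hb
    rcases h g with h1 | ⟨L, hx, hsL, hiso⟩
    · have h2 : x * s⁻¹ ∈ Subgroup.closure ({x, s} : Set K) :=
        mul_mem (Subgroup.subset_closure (by simp)) (inv_mem (Subgroup.subset_closure (by simp)))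
      obtain ⟨a, ha⟩ := h1 ⟨_, h2⟩
      exact eq_one_of_coprime hl hp hpl (congrArg Subtype.val ha) hb'
    · have h5 := hiso p hp hp2 hpl (P.subgroupOf L) (hP.comap_subtype) (fun y hy => hn _ hy)
        ⟨x * s⁻¹, mul_mem hx (inv_mem hsL)⟩ h4
      have h6 : x * (x * s⁻¹) = x * s⁻¹ * x := congrArg Subtype.val h5
      -- `s = (x s⁻¹)⁻¹ x`, commuting factors
      have h7 : Commute (x * s⁻¹)⁻¹ x := (Commute.inv_left (show Commute (x * s⁻¹) x from h6.symm))
      have h8 : s = (x * s⁻¹)⁻¹ * x := by group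
      have h9 : s ^ l ^ k = 1 := by rw [hs, conj_pow, hu, mul_one, mul_inv_cancel]
      have h10 : ((x * s⁻¹)⁻¹) ^ l ^ k = 1 := by
        have h11 := h7.mul_pow (l ^ k)
        rw [← h8, h9, hu, mul_one] at h11
        exact h11.symm
      have h12 : (x * s⁻¹) ^ l ^ k = 1 := by
        rw [inv_pow] at h10
        exact inv_eq_one.1 h10
      exact eq_one_of_coprime hl hp hpl h12 hb'
  rw [h3] at main
  exact mul_inv_eq_iff_eq_mul.1 (mul_inv_eq_one.1 main)

theorem up_neg {F : Type*} [Field F] (t : F) : up (-t) = (up t)⁻¹ := by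
  rw [eq_inv_iff_mul_eq_one]
  apply Subtype.ext
  show !![1, -t; 0, 1] * !![1, t; 0, 1] = (1 : Matrix (Fin 2) (Fin 2) F)
  rw [Matrix.mul_fin_two, Matrix.one_fin_two]
  simp

theorem lo_neg {F : Type*} [Field F] (t : F) : lo (-t) = (lo t)⁻¹ := by
  rw [eq_inv_iff_mul_eq_one]
  apply Subtype.ext
  show !![1, 0; -t, 1] * !![1, 0; t, 1] = (1 : Matrix (Fin 2) (Fin 2) F)
  rw [Matrix.mul_fin_two, Matrix.one_fin_two]
  simp

/-- The kernel of a homomorphism from `SL₂(F)`. -/
theorem ker_le_center {F : Type*} [Field F] {K : Type*} [Group K] (s : SpecialLinearGroup (Fin 2) F →* K)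
    (hup : ∀ t, s (up t) = 1 → t = 0) (hdis : ∀ a b : F, s (up a) = s (lo b) → a = 0 ∧ b = 0) :
    s.ker ≤ Subgroup.center (SpecialLinearGroup (Fin 2) F) := by
  intro z hz
  have hz1 : s z = 1 := hz
  obtain ⟨a, ha⟩ : ∃ a, a = z.1 0 0 := ⟨_, rfl⟩
  obtain ⟨b, hb⟩ : ∃ b, b = z.1 0 1 := ⟨_, rfl⟩
  obtain ⟨c, hc⟩ : ∃ c, c = z.1 1 0 := ⟨_, rfl⟩
  obtain ⟨d, hd⟩ : ∃ d, d = z.1 1 1 := ⟨_, rfl⟩
  have hdet : a * d - b * c = 1 := by
    have := z.2
    rw [Matrix.det_fin_two, ← ha, ← hb, ← hc, ← hd] at this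
    exact this
  have hzm : z.1 = !![a, b; c, d] := by rw [ha, hb, hc, hd]; exact Matrix.eta_fin_two z.1
  have c0 : c = 0 := by
    by_contra hc0
    have h1 : z * up 1 = up (a / c) * lo (-c ^ 2) * up (-(a / c)) * z := by
      apply Subtype.ext
      show z.1 * !![1, 1; 0, 1] = !![1, a / c; 0, 1] * !![1, 0; -c ^ 2, 1] * !![1, -(a / c); 0, 1] * z.1
      rw [hzm, Matrix.mul_fin_two, Matrix.mul_fin_two, Matrix.mul_fin_two, Matrix.mul_fin_two]
      ext i j
      fin_cases i <;> fin_cases j <;> simp <;> field_simp <;>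
        first
        | (ring; done)
        | linear_combination (-(a * c)) * hdet
        | linear_combination (-c) * hdet
    have h2 := congrArg s h1
    rw [map_mul, map_mul, hz1, one_mul, mul_one, map_mul, map_mul, up_neg, map_inv] at h2
    have h3 : s (up 1) = s (lo (-c ^ 2)) := by
      have h4 : s (up 1) = (s (up (a / c)))⁻¹ * s (up 1) * s (up (a / c)) := by
        rw [← map_inv, ← map_mul, ← map_mul, ← up_neg]
        congr 1
        apply Subtype.ext
        show !![1, 1; 0, 1] = !![1, -(a / c); 0, 1] * !![1, 1; 0, 1] * !![1, a / c; 0, 1]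
        rw [Matrix.mul_fin_two, Matrix.mul_fin_two]
        ext i j
        fin_cases i <;> fin_cases j <;> simp
      rw [h4, h2]
      group
    exact one_ne_zero (hdis _ _ h3).1
  have b0 : b = 0 := by
    by_contra hb0
    have h1 : z * lo 1 = lo (d / b) * up (-b ^ 2) * lo (-(d / b)) * z := by
      apply Subtype.ext
      show z.1 * !![1, 0; 1, 1] = !![1, 0; d / b, 1] * !![1, -b ^ 2; 0, 1] * !![1, 0; -(d / b), 1] * z.1
      rw [hzm, Matrix.mul_fin_two, Matrix.mul_fin_two, Matrix.mul_fin_two, Matrix.mul_fin_two]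
      ext i j
      fin_cases i <;> fin_cases j <;> simp <;> field_simp <;>
        first
        | (ring; done)
        | linear_combination (-(d * b)) * hdet
        | linear_combination (-b) * hdet
    have h2 := congrArg s h1
    rw [map_mul, map_mul, hz1, one_mul, mul_one, map_mul, map_mul, lo_neg, map_inv] at h2
    have h3 : s (up (-b ^ 2)) = s (lo 1) := by
      have h4 : s (lo 1) = (s (lo (d / b)))⁻¹ * s (lo 1) * s (lo (d / b)) := by
        rw [← map_inv, ← map_mul, ← map_mul, ← lo_neg]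
        congr 1
        apply Subtype.ext
        show !![1, 0; 1, 1] = !![1, 0; -(d / b), 1] * !![1, 0; 1, 1] * !![1, 0; d / b, 1]
        rw [Matrix.mul_fin_two, Matrix.mul_fin_two]
        ext i j
        fin_cases i <;> fin_cases j <;> simp
      rw [h4, h2]
      group
    exact one_ne_zero (hdis _ _ h3).2
  rw [b0, c0, mul_zero, sub_zero] at hdet
  have h5 : z * up 1 = up (a ^ 2) * z := by
    apply Subtype.ext
    show z.1 * !![1, 1; 0, 1] = !![1, a ^ 2; 0, 1] * z.1
    rw [hzm, b0, c0, Matrix.mul_fin_two, Matrix.mul_fin_two]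
    ext i j
    fin_cases i <;> fin_cases j <;> simp; linear_combination (-a) * hdet
  have h6 := congrArg s h5
  rw [map_mul, map_mul, hz1, one_mul, mul_one] at h6
  have h7 : s (up (a ^ 2 - 1)) = 1 := by
    have h8 : up (a ^ 2 - 1) = up (a ^ 2) * (up 1)⁻¹ := by
      rw [← up_neg]
      apply Subtype.ext
      show !![1, a ^ 2 - 1; 0, 1] = !![1, a ^ 2; 0, 1] * !![1, -1; 0, 1]
      rw [Matrix.mul_fin_two]
      ext i j
      fin_cases i <;> fin_cases j <;> simp; ring
    rw [h8, map_mul, map_inv, h6, mul_inv_cancel]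
  have h9 := hup _ h7
  have h10 : a = d := by
    have ha0 : a ≠ 0 := by
      rintro rfl
      simp at hdet
    apply mul_left_cancel₀ ha0
    rw [hdet]
    linear_combination h9
  rw [Matrix.SpecialLinearGroup.mem_center_iff]
  refine ⟨a, ?_, ?_⟩
  · rw [Fintype.card_fin]
    linear_combination h9
  · rw [hzm, b0, c0, ← h10]
    ext i j
    fin_cases i <;> fin_cases j <;> simp

section fin

theorem iso_up {l : ℕ} [hl : Fact l.Prime] (hl2 : l ≠ 2) {F : Type*} [Field F] [Finite F] [CharP F l] (t : F) :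
    (up t) ^ l = 1 ∧ Iso l (up t) := by
  refine iso_of_mat hl2 (G := SpecialLinearGroup (Fin 2) F) (ι := Fin 2)
    ({ toFun := fun g => g.1, map_one' := rfl, map_mul' := fun _ _ => rfl } :
      SpecialLinearGroup (Fin 2) F →* Matrix (Fin 2) (Fin 2) F) Subtype.val_injective
    (t := up t) ?_
  show ((up t).1 - 1) ^ 2 = 0
  have h0 : (up t).1 = !![(1 : F), t; 0, 1] := rfl
  rw [h0, Matrix.one_fin_two, pow_two]
  ext i j
  fin_cases i <;> fin_cases j <;> simp [Matrix.mul_apply, Fin.sum_univ_two]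

end fin

section chev

variable {D : ChevalleyDatum} {F : Type u} [Field F] [Fintype F] {l : ℕ} [hl : Fact l.Prime] [CharP F l]

theorem datF4 : Dat chevF4 [[0], [1], [2], [3], [1, 2, 3]] where
  hU := by decide +kernel
  hN := by decide +kernel
  hW := by decide +kernel

omit hl in
theorem isPGroup_pos (hl : l.Prime) (hD : InList D) : IsPGroup l ↥(D.posUnipotent F) := by
  have : Fact l.Prime := ⟨hl⟩
  obtain ⟨n, -, hn⟩ := FiniteField.card F l
  apply IsPGroup.of_card (n := n * (D.nroots / 2))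
  rw [Cfsg.Agent.S1027.result (F := F) D hD, hn, pow_mul]

omit hl in
theorem isPGroup_pair (hl : l.Prime) (hD : InList D) {W : List (List ℕ)} (T : Dat D W) {s : ℕ}
    (hs : s < D.nroots) (hs0 : s ≠ 0) :
    IsPGroup l ↥(D.rootSubgroup F (D.nroots - 1) ⊔ D.rootSubgroup F s) := by
  have G : Good D := Cfsg.Agent.ChevalleyStructure.RootComb.good_of_mem hD
  have hn0 := G.nroots_pos
  obtain ⟨w, hw, h1, h2⟩ := exists_pos_word G T _ s rfl hs hs0
  obtain ⟨g, -, hg⟩ := exists_acts_of_word (F := F) hD G w hw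
  refine isPGroup_of_conj g (isPGroup_pos hl hD) ?_
  rw [Subgroup.map_sup, hg _ (by omega), hg _ hs]
  exact sup_le (rootSubgroup_le_pos hD h1) (rootSubgroup_le_pos hD h2)

omit hl in
theorem pair_cases (hl : l.Prime) (hD : InList D) {W : List (List ℕ)} (T : Dat D W) (g : GL D.Idx F)
    (hg : g ∈ D.group F) :
    IsPGroup l ↥(D.rootSubgroup F (D.nroots - 1) ⊔
      (D.rootSubgroup F (D.nroots - 1)).map (MulAut.conj g).toMonoidHom) ∨
    ∃ b ∈ D.group F, (D.rootSubgroup F (D.nroots - 1)).map (MulAut.conj b).toMonoidHom =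
        D.rootSubgroup F (D.nroots - 1) ∧
      (D.rootSubgroup F (D.nroots - 1)).map (MulAut.conj g).toMonoidHom =
        (D.rootSubgroup F 0).map (MulAut.conj b).toMonoidHom := by
  have G : Good D := Cfsg.Agent.ChevalleyStructure.RootComb.good_of_mem hD
  have hn0 := G.nroots_pos
  have hr : D.nroots - 1 < D.nroots := by omega
  obtain ⟨b, hb, n, hn, b', hb', rfl⟩ := Cfsg.Agent.S1100.exists_bruhat hD hg
  obtain ⟨w, hw, hact⟩ := exists_acts hD hn
  have hwr := wact_lt G hw hr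
  have hbG : b ∈ D.group F := (Cfsg.Agent.S1043.result (F := F) D hD).1 hb
  have e1 : (D.rootSubgroup F (D.nroots - 1)).map (MulAut.conj (b * n * b')).toMonoidHom =
      (D.rootSubgroup F (wact D w (D.nroots - 1))).map (MulAut.conj b).toMonoidHom := by
    rw [map_conj_mul, borel_conj hD T hb', map_conj_mul, hact _ hr]
  by_cases h0 : wact D w (D.nroots - 1) = 0
  · right
    refine ⟨b, hbG, borel_conj hD T hb, ?_⟩
    rw [e1, h0]
  · left
    have e2 : D.rootSubgroup F (D.nroots - 1) ⊔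
        (D.rootSubgroup F (D.nroots - 1)).map (MulAut.conj (b * n * b')).toMonoidHom
        = (D.rootSubgroup F (D.nroots - 1) ⊔ D.rootSubgroup F (wact D w (D.nroots - 1))).map
          (MulAut.conj b).toMonoidHom := by
      rw [e1, Subgroup.map_sup, borel_conj hD T hb]
    refine isPGroup_of_conj b⁻¹ (isPGroup_pair hl hD T hwr h0) ?_
    rw [e2, map_conj_inv_map]

omit [Fintype F] in
/-- The kernel of `SL₂(F) → D(F)` is central. -/
theorem ker_psi (hD : InList D) (hneg : D.neg (D.nroots - 1) = 0) (hr : D.nroots - 1 < D.nroots)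
    (hr1 : D.IsPosRoot (D.nroots - 1)) (hr0 : D.IsNegRoot 0) :
    (psi hD hr F).ker ≤ Subgroup.center (SpecialLinearGroup (Fin 2) F) := by
  refine ker_le_center (psi hD hr F) ?_ ?_
  · intro t ht
    have h1 := congrArg Subtype.val ht
    rw [psi_up] at h1
    exact (xG_eq_one_iff hD hr t).1 h1
  · intro a b hab
    have h1 := congrArg Subtype.val hab
    rw [psi_up, psi_lo, hneg] at h1
    have h2 : (xG hD (D.nroots - 1) a : GL D.Idx F) ∈ D.posUnipotent F ⊓ D.negUnipotent F :=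
      ⟨xG_mem_posUnipotent hD hr1 a, by rw [h1]; exact xG_mem_negUnipotent hD hr0 b⟩
    rw [Cfsg.Agent.ChevalleyStructure.Triangular.pos_inf_neg_eq_bot hD] at h2
    have h3 : (xG hD (D.nroots - 1) a : GL D.Idx F) = 1 := h2
    rw [h3] at h1
    exact ⟨(xG_eq_one_iff hD hr a).1 h3, (xG_eq_one_iff hD hr0.1 b).1 h1.symm⟩

/-- **Long root elements are isolated.** -/
theorem iso_high (hl2 : l ≠ 2) (hD : InList D) {W : List (List ℕ)} (T : Dat D W)
    (hneg : D.neg (D.nroots - 1) = 0) (hr : D.nroots - 1 < D.nroots)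
    (hr1 : D.IsPosRoot (D.nroots - 1)) (hr0 : D.IsNegRoot 0) (t : F) :
    (psi hD hr F (up t)) ^ l = 1 ∧ Iso l (psi hD hr F (up t)) := by
  have hfin : Finite (SpecialLinearGroup (Fin 2) F) := inferInstance
  have h1 : (psi hD hr F (up t)) ^ l = 1 := by rw [← map_pow, (iso_up hl2 t).1, map_one]
  refine ⟨h1, iso_of_local hl.out (k := 1) (by rw [pow_one]; exact h1) fun g => ?_⟩
  have hu : ((psi hD hr F (up t) : ↥(D.group F)) : GL D.Idx F) ∈ D.rootSubgroup F (D.nroots - 1) := by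
    rw [psi_up]
    exact (mem_rootSubgroup_iff hD _ _).2 ⟨t, rfl⟩
  have hgu : ((g * psi hD hr F (up t) * g⁻¹ : ↥(D.group F)) : GL D.Idx F) ∈
      (D.rootSubgroup F (D.nroots - 1)).map (MulAut.conj (g : GL D.Idx F)).toMonoidHom := ⟨_, hu, rfl⟩
  rcases pair_cases hl.out hD T (g : GL D.Idx F) g.2 with h2 | ⟨b, hb, h2, h3⟩
  · left
    have h4 : (Subgroup.closure ({psi hD hr F (up t), g * psi hD hr F (up t) * g⁻¹} : Set ↥(D.group F))).map
        (D.group F).subtype ≤ D.rootSubgroup F (D.nroots - 1) ⊔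
          (D.rootSubgroup F (D.nroots - 1)).map (MulAut.conj (g : GL D.Idx F)).toMonoidHom := by
      rw [MonoidHom.map_closure, Subgroup.closure_le, Set.image_pair]
      rintro x (rfl | rfl)
      · exact Subgroup.mem_sup_left hu
      · exact Subgroup.mem_sup_right hgu
    exact (h2.to_le h4).of_equiv (Subgroup.equivMapOfInjective _ _ (Subgroup.subtype_injective _)).symm
  · right
    let B : ↥(D.group F) := ⟨b, hb⟩
    let π : SpecialLinearGroup (Fin 2) F →* ↥(D.group F) := (MulAut.conj B).toMonoidHom.comp (psi hD hr F)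
    have hπ : ∀ z, π z = B * psi hD hr F z * B⁻¹ := fun z => rfl
    -- the two elements
    obtain ⟨t1, ht1⟩ : ∃ t1 : F, psi hD hr F (up t) = π (up t1) := by
      rw [← h2] at hu
      obtain ⟨y, hy, hyu⟩ := hu
      obtain ⟨t1, rfl⟩ := (mem_rootSubgroup_iff hD _ y).1 hy
      refine ⟨t1, Subtype.ext ?_⟩
      rw [← hyu, hπ]
      show b * xG hD (D.nroots - 1) t1 * b⁻¹ = b * _ * b⁻¹
      rw [psi_up]
    obtain ⟨s1, hs1⟩ : ∃ s1 : F, g * psi hD hr F (up t) * g⁻¹ = π (lo s1) := by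
      rw [h3] at hgu
      obtain ⟨y, hy, hyu⟩ := hgu
      obtain ⟨s1, rfl⟩ := (mem_rootSubgroup_iff hD _ y).1 hy
      refine ⟨s1, Subtype.ext ?_⟩
      rw [← hyu, hπ]
      show b * xG hD 0 s1 * b⁻¹ = b * _ * b⁻¹
      rw [psi_lo, hneg]
    refine ⟨π.range, ⟨up t1, ht1.symm⟩, ⟨lo s1, hs1.symm⟩, ?_⟩
    have h5 : (⟨psi hD hr F (up t), ⟨up t1, ht1.symm⟩⟩ : π.range) = π.rangeRestrict (up t1) := Subtype.ext ht1
    rw [h5]
    refine iso_map π.rangeRestrict π.rangeRestrict_surjective ?_ (iso_up hl2 t1).2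
    rw [MonoidHom.ker_rangeRestrict]
    intro z hz
    refine ker_psi hD hneg hr hr1 hr0 ?_
    have h6 : B * psi hD hr F z * B⁻¹ = 1 := hz
    have h7 : psi hD hr F z = 1 := by
      have h8 : B * psi hD hr F z = B := mul_inv_eq_one.1 h6
      exact mul_eq_left.1 h8
    exact h7

/-- the facts about the highest root -/
structure High (D : ChevalleyDatum) : Prop where
  hD : InList D
  dat : ∃ W, Dat D W
  neg : D.neg (D.nroots - 1) = 0
  lt : D.nroots - 1 < D.nroots
  pos : D.IsPosRoot (D.nroots - 1)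
  neg0 : D.IsNegRoot 0

theorem highG2 : High chevG2 := ⟨by simp [InList], ⟨_, S2186.datG2⟩, by decide +kernel, by decide +kernel, by decide +kernel, by decide +kernel⟩
theorem highD4 : High chevD4 := ⟨by simp [InList], ⟨_, S2186.datD4⟩, by decide +kernel, by decide +kernel, by decide +kernel, by decide +kernel⟩
theorem highF4 : High chevF4 := ⟨by simp [InList], ⟨_, datF4⟩, by decide +kernel, by decide +kernel, by decide +kernel, by decide +kernel⟩
theorem highE6 : High chevE6 := ⟨by simp [InList], ⟨_, S2186.datE6⟩, by decide +kernel, by decide +kernel, by decide +kernel, by decide +kernel⟩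
theorem highE7 : High chevE7 := ⟨by simp [InList], ⟨_, S2186.datE7⟩, by decide +kernel, by decide +kernel, by decide +kernel, by decide +kernel⟩
theorem highE8 : High chevE8 := ⟨by simp [InList], ⟨_, S2186.datE8⟩, by decide +kernel, by decide +kernel, by decide +kernel, by decide +kernel⟩

omit hl in
/-- **Elements of root subgroups conjugate to the highest one are isolated.** -/
theorem iso_root (hl : l.Prime) (hl2 : l ≠ 2) (H : High D) {r : ℕ} (w : List ℕ) (hw : ∀ a ∈ w, a < D.rank)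
    (hwr : wact D w (D.nroots - 1) = r) (t : F) (ht : xG H.hD r t ∈ D.group F) :
    (⟨xG H.hD r t, ht⟩ : ↥(D.group F)) ^ l = 1 ∧ Iso l (⟨xG H.hD r t, ht⟩ : ↥(D.group F)) := by
  have hlf : Fact l.Prime := ⟨hl⟩
  have hD := H.hD
  have G : Good D := Cfsg.Agent.ChevalleyStructure.RootComb.good_of_mem hD
  obtain ⟨W, T⟩ := H.dat
  obtain ⟨g, hg, hact⟩ := exists_acts_of_word (F := F) hD G w hw
  have h1 := hact _ H.lt
  rw [hwr] at h1
  have h2 : (xG hD r t : GL D.Idx F) ∈ D.rootSubgroup F r := (mem_rootSubgroup_iff hD _ _).2 ⟨t, rfl⟩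
  rw [← h1] at h2
  obtain ⟨y, hy, hyu⟩ := h2
  obtain ⟨s, rfl⟩ := (mem_rootSubgroup_iff hD _ y).1 hy
  obtain ⟨h3, h4⟩ := iso_high hl2 hD T H.neg H.lt H.pos H.neg0 s
  have h5 : (⟨xG H.hD r t, ht⟩ : ↥(D.group F)) =
      (⟨g, hg⟩ : ↥(D.group F)) * psi hD H.lt F (up s) * (⟨g, hg⟩ : ↥(D.group F))⁻¹ := by
    apply Subtype.ext
    show xG H.hD r t = g * _ * g⁻¹
    rw [psi_up, ← hyu]
    rfl
  rw [h5]
  refine ⟨?_, iso_conj _ h4⟩
  rw [conj_pow, h3, mul_one, mul_inv_cancel]

end chev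

section rows

open Cfsg.Agent.H967.CopMat Cfsg.Agent.H967.CopRow Cfsg.Agent.H967.CopChev Cfsg.Agent.H967.CopTw
  Cfsg.Agent.ChevStructure.FieldMap Cfsg.Agent.ChevalleyStructure

variable {l : ℕ} [hl : Fact l.Prime]

/-- untwisted groups -/
theorem chev (hl2 : l ≠ 2) {D : ChevalleyDatum} (H : High D) {F : Type v} [Field F] [Fintype F] [CharP F l]
    (R : Row (D.group F)) (h2 : 2 ∣ Nat.card ↥(D.group F)) : UF l ↥(D.group F) := by
  have hD := H.hD
  obtain ⟨W, T⟩ := H.dat
  obtain ⟨h3, h4⟩ := iso_high (F := F) hl2 hD T H.neg H.lt H.pos H.neg0 1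
  refine uf_of_fix (fieldAut R.stab) (FieldConjS.of_row R) h2 (psi hD H.lt F (up 1)) ?_ ⟨1, by rw [pow_one]; exact h3⟩ ?_ h4
  · intro h
    have h5 := congrArg Subtype.val h
    rw [psi_up] at h5
    exact one_ne_zero ((xG_eq_one_iff hD H.lt (1 : F)).1 h5)
  · intro τ _
    apply Subtype.ext
    rw [coe_fieldAut, psi_up, map_xG, map_one]

/-- twisted groups -/
theorem twisted (hl2 : l ≠ 2) {D : ChevalleyDatum} (H : High D) {K : Type v} [Field K] [Fintype K] [CharP K l]
    {G : Subgroup (GL D.Idx K)} (R : Row G) (h2 : 2 ∣ Nat.card ↥G) (hle : G ≤ D.group K) {r : ℕ}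
    (hr : r < D.nroots) (w : List ℕ) (hw : ∀ a ∈ w, a < D.rank)
    (hwr : wact D w (D.nroots - 1) = r) (hmem : xG H.hD r 1 ∈ G) : UF l ↥G := by
  have hD := H.hD
  obtain ⟨h3, h4⟩ := iso_root (F := K) hl.out hl2 H w hw hwr 1 (hle hmem)
  refine uf_of_fix (fieldAut R.stab) (FieldConjS.of_row R) h2 ⟨xG hD r 1, hmem⟩ ?_ ⟨1, ?_⟩ ?_ ?_
  · intro h
    have h5 : (xG hD r 1 : GL D.Idx K) = 1 := congrArg Subtype.val h
    exact one_ne_zero ((xG_eq_one_iff hD hr (1 : K)).1 h5)
  · rw [pow_one]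
    have h6 : (xG hD r 1 : GL D.Idx K) ^ l = 1 := congrArg (fun z : ↥(D.group K) => (z : GL D.Idx K)) h3
    exact Subtype.ext h6
  · intro τ _
    apply Subtype.ext
    rw [coe_fieldAut]
    show Matrix.GeneralLinearGroup.map (τ : K →+* K) (xG hD r 1) = xG hD r 1
    rw [map_xG, map_one]
  · exact iso_of_inj (Subgroup.inclusion hle) (Subgroup.inclusion_injective hle) h4

/-- subgroups generated by words in root elements -/
theorem genSubgroup_le_group {D : ChevalleyDatum} (hD : InList D) {K : Type*} [Field K] (S : Set (List (ℕ × K))) :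
    D.genSubgroup K S ≤ D.group K := by
  unfold ChevalleyDatum.genSubgroup
  rw [Subgroup.closure_le]
  rintro g ⟨w, -, hg⟩
  rw [← eq_wordG_iff hD] at hg
  rw [SetLike.mem_coe, hg]
  clear hg
  induction w with
  | nil => exact one_mem _
  | cons p w ih => rw [wordG_cons]; exact mul_mem (xG_mem_group hD _ _) ih

variable {K : Type v} [Field K] [Fintype K] [CharP K l] {q : ℕ}

theorem d4 (hl2 : l ≠ 2) (hq : IsPrimePow q) (hK : Fintype.card K = q ^ 3) : UF l ↥(twistedD4 K q) := by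
  obtain ⟨φ, hφ⟩ := D4Fixed.exists_frob hq hK
  have hc := S1067.result hq hK
  have h2 : 2 ∣ Nat.card ↥(twistedD4 K q) := by
    rw [hc, mul_assoc]
    exact H967.CopChev.two_dvd_of (by norm_num)
  exact twisted hl2 highD4 (row_d4 hq hK) h2 (genSubgroup_le_group highD4.hD _) (r := 14) (by decide)
    [3, 0, 2, 1] (by decide) (by decide +kernel) (D4U.xG14_mem hφ (map_one φ))

theorem tw2e6 (hl2 : l ≠ 2) (hq : IsPrimePow q) (hK : Fintype.card K = q ^ 2)
    (hs : Schreier.Basic.Sch ↥(twistedE6 K q)) (h2 : 2 ∣ Nat.card ↥(twistedE6 K q)) :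
    UF l ↥(twistedE6 K q) := by
  exact twisted hl2 highE6 (row_2e6 hq hK hs) h2 (genSubgroup_le_group highE6.hD _) (r := 46) (by decide)
    [3, 2, 0, 4, 5, 3, 2, 4, 3, 1] (by decide) (by decide +kernel) (E6Fixed.x_mem (by simp) (one_pow _))

end rows

end Cfsg.Agent.H26.UFChev
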