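import Mathlib
import Cfsg.Agent.H25.UFDef
import Cfsg.Agent.H879.QuadPair

/-!
# Isolated unipotent elements fixed by coprime automorphisms: criteria (helper26, for S1930)
-/

set_option autoImplicit false

namespace Cfsg.Agent.H26.UFix

open Subgroup Cfsg.Agent.H25.UFDef

universe u v

/-- Two powers of different primes. -/
theorem eq_one_of_coprime {G : Type*} [Group G] {x : G} {l p : ℕ} (hl : l.Prime) (hp : p.Prime) (h : p ≠ l)
    {a b : ℕ} (h1 : x ^ l ^ a = 1) (h2 : x ^ p ^ b = 1) : x = 1 := by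
  have h3 : orderOf x ∣ Nat.gcd (l ^ a) (p ^ b) :=
    Nat.dvd_gcd (orderOf_dvd_of_pow_eq_one h1) (orderOf_dvd_of_pow_eq_one h2)
  have h4 : Nat.Coprime (l ^ a) (p ^ b) := Nat.Coprime.pow _ _ ((Nat.coprime_primes hl hp).2 (Ne.symm h))
  rw [h4] at h3
  exact orderOf_eq_one_iff.1 (Nat.dvd_one.1 h3)

/-- **Criterion by pairs of conjugates.** -/
theorem iso_of_pairs {l : ℕ} (hl : l.Prime) (hl2 : l ≠ 2) {K : Type*} [Group K] {u : K} {k : ℕ}
    (hu : u ^ l ^ k = 1)
    (h : ∀ g : K, IsPGroup l (closure ({u, g * u * g⁻¹} : Set K)) ∨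
      ∃ j ∈ closure ({u, g * u * g⁻¹} : Set K), j ≠ 1 ∧ j * j = 1) : Iso l u := by
  intro p hp hp2 hpl P hP hn g hg
  have hpos : 0 < l ^ k := pow_pos hl.pos k
  have hnp : ∀ n : ℕ, ∀ x ∈ P, u ^ n * x * (u ^ n)⁻¹ ∈ P := by
    intro n
    induction n with
    | zero => intro x hx; simpa using hx
    | succ n ih =>
      intro x hx
      have h1 := ih _ (hn x hx)
      have h2 : u ^ (n + 1) * x * (u ^ (n + 1))⁻¹ = u ^ n * (u * x * u⁻¹) * (u ^ n)⁻¹ := by
        rw [pow_succ]; group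
      rw [h2]
      exact h1
  have hnz : ∀ n : ℤ, ∀ x ∈ P, u ^ n * x * (u ^ n)⁻¹ ∈ P := by
    intro n x hx
    have h1 : u ^ n = u ^ (n % ((l ^ k : ℕ) : ℤ)).toNat := by
      rw [← zpow_natCast, Int.toNat_of_nonneg (Int.emod_nonneg _ (by exact_mod_cast hpos.ne'))]
      conv_lhs => rw [← Int.emod_add_mul_ediv n ((l ^ k : ℕ) : ℤ), zpow_add, zpow_mul, zpow_natCast, hu, one_zpow, mul_one]
    rw [h1]
    exact hnp _ x hx
  set s := g * u * g⁻¹ with hs
  have key : ∀ x ∈ closure ({u, s} : Set K), ∃ n : ℤ, ∃ y ∈ P, x = y * u ^ n := by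
    intro x hx
    induction hx using Subgroup.closure_induction with
    | mem x hx =>
      rcases hx with rfl | rfl
      · exact ⟨1, 1, one_mem _, by simp⟩
      · exact ⟨1, g * (u * g⁻¹ * u⁻¹), mul_mem hg (hn _ (inv_mem hg)), by rw [hs]; group⟩
    | one => exact ⟨0, 1, one_mem _, by simp⟩
    | mul x x' _ _ h1 h2 =>
      obtain ⟨n, y, hy, rfl⟩ := h1
      obtain ⟨m, y', hy', rfl⟩ := h2
      exact ⟨n + m, y * (u ^ n * y' * (u ^ n)⁻¹), mul_mem hy (hnz _ _ hy'), by rw [zpow_add]; group⟩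
    | inv x _ h1 =>
      obtain ⟨n, y, hy, rfl⟩ := h1
      exact ⟨-n, u ^ (-n) * y⁻¹ * (u ^ (-n))⁻¹, hnz _ _ (inv_mem hy), by group⟩
  have hpow : ∀ (n : ℤ) (y : K), y ∈ P → ∀ m : ℕ, ∃ y' ∈ P, (y * u ^ n) ^ m = y' * u ^ (n * m) := by
    intro n y hy m
    induction m with
    | zero => exact ⟨1, one_mem _, by simp⟩
    | succ m ih =>
      obtain ⟨y', hy', h1⟩ := ih
      refine ⟨y' * (u ^ (n * m) * y * (u ^ (n * m))⁻¹), mul_mem hy' (hnz _ _ hy), ?_⟩
      rw [pow_succ, h1]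
      push_cast
      rw [mul_add, mul_one, zpow_add]
      group
  rcases h g with h1 | ⟨j, hj, hj1, hjj⟩
  · -- the commutator has `l`-power and `p`-power order
    have h2 : u * s⁻¹ ∈ closure ({u, s} : Set K) :=
      mul_mem (subset_closure (by simp)) (inv_mem (subset_closure (by simp)))
    have h3 : u * s⁻¹ = (u * g * u⁻¹) * g⁻¹ := by rw [hs]; group
    have h4 : u * s⁻¹ ∈ P := by rw [h3]; exact mul_mem (hn g hg) (inv_mem hg)
    obtain ⟨a, ha⟩ := h1 ⟨_, h2⟩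
    obtain ⟨b, hb⟩ := hP ⟨_, h4⟩
    have h5 : u * s⁻¹ = 1 := eq_one_of_coprime hl hp hpl (congrArg Subtype.val ha) (congrArg Subtype.val hb)
    rw [h3] at h5
    have h6 : u * g * u⁻¹ = g := mul_inv_eq_one.1 h5
    rw [mul_inv_eq_iff_eq_mul] at h6
    exact h6
  · exfalso
    apply hj1
    obtain ⟨n, y, hy, rfl⟩ := key j hj
    obtain ⟨y', hy', h2⟩ := hpow n y hy (l ^ k)
    have hlo : Odd (l ^ k) := (hl.odd_of_ne_two hl2).pow
    obtain ⟨c, hc⟩ := hlo
    have h3 : (y * u ^ n) ^ (l ^ k) = y * u ^ n := by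
      rw [hc, pow_add, pow_mul, pow_two, hjj, one_pow, one_mul, pow_one]
    have h4 : u ^ (n * ((l ^ k : ℕ) : ℤ)) = 1 := by
      rw [mul_comm, zpow_mul, zpow_natCast, hu, one_zpow]
    rw [h3, h4, mul_one] at h2
    rw [h2] at hjj ⊢
    obtain ⟨b, hb⟩ := hP ⟨_, hy'⟩
    exact eq_one_of_coprime Nat.prime_two hp hp2 (a := 1) (by rw [pow_one, pow_two]; exact hjj)
      (congrArg Subtype.val hb)

theorem iso_of_inj {l : ℕ} {G K : Type*} [Group G] [Group K] (f : G →* K) (hf : Function.Injective f) {u : G}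
    (h : Iso l (f u)) : Iso l u := by
  intro p hp hp2 hpl P hP hn g hg
  apply hf
  rw [map_mul, map_mul]
  refine h p hp hp2 hpl (P.map f) (hP.map f) ?_ _ ⟨g, hg, rfl⟩
  rintro _ ⟨x, hx, rfl⟩
  exact ⟨u * x * u⁻¹, hn x hx, by rw [map_mul, map_mul, map_inv]⟩

theorem iso_equiv {l : ℕ} {G K : Type*} [Group G] [Group K] (e : G ≃* K) {u : G} (h : Iso l u) : Iso l (e u) := by
  refine iso_of_inj (e.symm : K →* G) e.symm.injective ?_
  show Iso l (e.symm (e u))
  rw [MulEquiv.symm_apply_apply]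
  exact h

theorem iso_conj {l : ℕ} {G : Type*} [Group G] (g : G) {u : G} (h : Iso l u) : Iso l (g * u * g⁻¹) :=
  iso_equiv (MulAut.conj g) h

/-- **Quotients by central subgroups.** -/
theorem iso_map {l : ℕ} {G K : Type*} [Group G] [Finite G] [Group K] (π : G →* K) (hπ : Function.Surjective π)
    (hker : π.ker ≤ center G) {t : G} (h : Iso l t) : Iso l (π t) := by
  intro p hp hp2 hpl P hP hn g hg
  have hpf : Fact p.Prime := ⟨hp⟩
  have hK : Finite K := Finite.of_surjective π hπ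
  -- the preimage is nilpotent
  let N : Subgroup G := P.comap π
  have hnil : Group.IsNilpotent N := by
    let f : N →* P := (π.comp N.subtype).codRestrict P (fun x => x.2)
    have hPn : Group.IsNilpotent P := hP.isNilpotent
    refine Subgroup.isNilpotent_of_ker_le_center f ?_
    · intro x hx
      rw [mem_center_iff]
      intro y
      have h1 : (x : G) ∈ π.ker := congrArg Subtype.val hx
      exact Subtype.ext (mem_center_iff.1 (hker h1) y)
  let S : Sylow p N := default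
  have htf : Group.IsNilpotent N ↔ ∀ (p : ℕ) (_ : Fact p.Prime) (P : Sylow p N), (P : Subgroup N).Normal :=
    (Group.isNilpotent_of_finite_tfae (G := N)).out 0 3
  have hSn : (S : Subgroup N).Normal := htf.1 hnil p hpf S
  have hSmem : ∀ x : N, (∃ k : ℕ, x ^ p ^ k = 1) → x ∈ (S : Subgroup N) := by
    rintro x ⟨k, hk⟩
    have h1 : IsPGroup p (zpowers x) := by
      rintro ⟨y, hy⟩
      obtain ⟨n, rfl⟩ := mem_zpowers_iff.1 hy
      refine ⟨k, Subtype.ext ?_⟩
      show (x ^ n) ^ p ^ k = 1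
      rw [← zpow_natCast, ← zpow_mul, mul_comm, zpow_mul, zpow_natCast, hk, one_zpow]
    obtain ⟨T, hT⟩ := h1.exists_le_sylow
    have : Unique (Sylow p N) := Sylow.unique_of_normal S hSn
    rw [Subsingleton.elim S T]
    exact hT (mem_zpowers x)
  -- the Sylow subgroup, in `G`
  let T : Subgroup G := (S : Subgroup N).map N.subtype
  have hTp : IsPGroup p T := S.isPGroup'.map _
  have htN : ∀ x ∈ N, t * x * t⁻¹ ∈ N := by
    intro x hx
    show π (t * x * t⁻¹) ∈ P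
    rw [map_mul, map_mul, map_inv]
    exact hn _ hx
  have htT : ∀ x ∈ T, t * x * t⁻¹ ∈ T := by
    rintro _ ⟨x, hx, rfl⟩
    refine ⟨⟨t * x * t⁻¹, htN x x.2⟩, hSmem _ ?_, rfl⟩
    obtain ⟨k, hk⟩ := S.isPGroup' ⟨x, hx⟩
    refine ⟨k, Subtype.ext ?_⟩
    show (t * (x : G) * t⁻¹) ^ p ^ k = 1
    rw [conj_pow]
    have h2 : (x : G) ^ p ^ k = 1 := by
      have := congrArg (fun z : (S : Subgroup N) => ((z : N) : G)) hk
      exact this
    rw [h2, mul_one, mul_inv_cancel]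
  have hcomm := h p hp hp2 hpl T hTp htT
  -- lift `g`
  obtain ⟨x, rfl⟩ := hπ g
  have hxN : x ∈ N := hg
  obtain ⟨k, hk⟩ := hP ⟨_, hg⟩
  have hk' : π x ^ p ^ k = 1 := congrArg Subtype.val hk
  -- choose an exponent
  obtain ⟨a, m, hm, hmn⟩ : ∃ a m : ℕ, m.Coprime p ∧ orderOf x = p ^ a * m := by
    have h0 : orderOf x ≠ 0 := (orderOf_pos x).ne'
    obtain ⟨a, m, h1, h2⟩ := Nat.exists_eq_pow_mul_and_not_dvd h0 p hp.one_lt.ne'
    exact ⟨a, m, Nat.Coprime.symm ((Nat.Prime.coprime_iff_not_dvd hp).2 h1), h2⟩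
  obtain ⟨e, he1, he2⟩ : ∃ e : ℕ, e ≡ 1 [MOD p ^ k] ∧ e ≡ 0 [MOD m] :=
    ⟨_, (Nat.chineseRemainder (Nat.Coprime.pow_left k hm.symm) 1 0).2.1,
      (Nat.chineseRemainder (Nat.Coprime.pow_left k hm.symm) 1 0).2.2⟩
  have hme : m ∣ e := (Nat.modEq_zero_iff_dvd).1 he2
  have h3 : π (x ^ e) = π x := by
    rw [map_pow]
    have h4 : orderOf (π x) ∣ p ^ k := orderOf_dvd_of_pow_eq_one hk'
    have h5 : e ≡ 1 [MOD orderOf (π x)] := he1.of_dvd h4
    calc π x ^ e = π x ^ 1 := pow_eq_pow_iff_modEq.2 h5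
      _ = π x := pow_one _
  have h6 : x ^ e ∈ T := by
    refine ⟨⟨x ^ e, pow_mem hxN e⟩, hSmem _ ⟨a, Subtype.ext ?_⟩, rfl⟩
    show (x ^ e) ^ p ^ a = 1
    obtain ⟨c, rfl⟩ := hme
    rw [← pow_mul, show m * c * p ^ a = orderOf x * c by rw [hmn]; ring, pow_mul, pow_orderOf_eq_one, one_pow]
  have h7 := hcomm _ h6
  have h8 := congrArg π h7
  rwa [map_mul, map_mul, h3] at h8

/-- **Quadratic elements.** -/
theorem iso_of_quad {l : ℕ} [hl : Fact l.Prime] (hl2 : l ≠ 2) {F : Type*} [Field F] [CharP F l] {V : Type*}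
    [AddCommGroup V] [Module F V] [FiniteDimensional F V] {G : Type*} [Group G] [Finite G]
    (ρ : G →* Module.End F V) (hρ : Function.Injective ρ) {t : G} (ht : (ρ t - 1) ^ 2 = 0) :
    t ^ l = 1 ∧ Iso l t := by
  have h1 : t ^ l = 1 := by
    apply hρ
    rw [map_pow, map_one]
    have h2 : (ρ t - 1) ^ l = 0 := pow_eq_zero_of_le hl.out.two_le ht
    have hch : CharP (Module.End F V) l ∨ Subsingleton (Module.End F V) := by
      rcases subsingleton_or_nontrivial (Module.End F V) with h | h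
      · exact Or.inr h
      · exact Or.inl (charP_of_injective_algebraMap (algebraMap F (Module.End F V)).injective l)
    rcases hch with hch | hch
    · rw [sub_pow_char_of_commute (p := l) (Commute.one_right _), one_pow, sub_eq_zero] at h2
      exact h2
    · exact Subsingleton.elim _ _
  refine ⟨h1, iso_of_pairs hl.out hl2 (k := 1) (by rw [pow_one]; exact h1) fun g => ?_⟩
  by_cases hp : IsPGroup l (closure ({t, g * t * g⁻¹} : Set G))
  · exact Or.inl hp
  · right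
    have hs : (ρ (g * t * g⁻¹) - 1) ^ 2 = 0 := by
      have h3 : ρ (g * t * g⁻¹) - 1 = ρ g * (ρ t - 1) * ρ g⁻¹ := by
        rw [mul_sub, sub_mul, mul_one, ← map_mul, ← map_mul, ← map_mul, mul_inv_cancel, map_one]
      have h4 : ρ g⁻¹ * ρ g = 1 := by rw [← map_mul, inv_mul_cancel, map_one]
      rw [h3, pow_two]
      calc ρ g * (ρ t - 1) * ρ g⁻¹ * (ρ g * (ρ t - 1) * ρ g⁻¹)
          = ρ g * ((ρ t - 1) * (ρ g⁻¹ * ρ g) * (ρ t - 1)) * ρ g⁻¹ := by simp only [mul_assoc]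
        _ = 0 := by rw [h4, mul_one, ← pow_two, ht, mul_zero, zero_mul]
    obtain ⟨j, hj, hj1, hjj, -, -⟩ := H879.QuadPair.exists_involution hl2 ρ hρ ht hs hp
    exact ⟨j, hj, hj1, hjj⟩

theorem uf_of_equiv {l : ℕ} {K : Type*} [Group K] {L : Type*} [Group L] (e : K ≃* L) (h : UF l K) : UF l L := by
  intro A hA
  have hcard : Nat.card K = Nat.card L := Nat.card_congr e.toEquiv
  let E : MulAut L ≃* MulAut K := (MulAut.congr e).symm
  have h1 : Nat.card (A.map E.toMonoidHom) = Nat.card A :=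
    (Nat.card_congr (A.equivMapOfInjective E.toMonoidHom E.injective).toEquiv).symm
  obtain ⟨x, h2, ⟨k, h3⟩, h4, h5⟩ := h (A.map E.toMonoidHom) (by rw [h1, hcard]; exact hA)
  have key : ∀ a : MulAut L, E a x = e.symm (a (e x)) := fun a => rfl
  refine ⟨e x, ?_, ⟨k, ?_⟩, fun a ha => ?_, iso_equiv e h5⟩
  · intro h
    exact h2 ((map_eq_one_iff e e.injective).1 h)
  · rw [← map_pow, h3, map_one]
  · have h6 := h4 (E a) ⟨a, ha, rfl⟩
    rw [key] at h6
    exact e.symm.injective (by rw [h6, MulEquiv.symm_apply_apply])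

end Cfsg.Agent.H26.UFix
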