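import Cfsg.Agent.H26.UFDefs
import Cfsg.Agent.H531.FMRows

/-!
# `UF` for the linear, symplectic and unitary groups (helper26, for S1930)
-/

set_option autoImplicit false

namespace Cfsg.Agent.H26.UFLin

open Cfsg.Agent.H25.UFDef Cfsg.Agent.H26.UFix Cfsg.Agent.H531 Cfsg.Agent.ChevalleyStructure.SL2Hom

universe u v

/-- Matrices with `(t - 1)² = 0`. -/
theorem iso_of_mat {l : ℕ} [Fact l.Prime] (hl2 : l ≠ 2) {F : Type*} [Field F] [CharP F l] {ι : Type*}
    [Fintype ι] [DecidableEq ι] {G : Type*} [Group G] [Finite G] (f : G →* Matrix ι ι F)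
    (hf : Function.Injective f) {t : G} (ht : (f t - 1) ^ 2 = 0) : t ^ l = 1 ∧ Iso l t := by
  let θ : Matrix ι ι F ≃ₐ[F] Module.End F (ι → F) := Matrix.toLinAlgEquiv'
  refine iso_of_quad hl2 ((θ : Matrix ι ι F →* Module.End F (ι → F)).comp f) (θ.injective.comp hf) ?_
  show (θ (f t) - 1) ^ 2 = 0
  have h1 : θ (f t) - 1 = θ (f t - 1) := by rw [map_sub, map_one]
  rw [h1, ← map_pow, ht, map_zero]

/-- **Criterion.** -/
theorem uf_of_fix {l : ℕ} {K : Type u} [Group K] {F : Type v} [Field F] [Finite F]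
    (φ : (F ≃+* F) →* MulAut K) (hco : FieldConjS φ) (h2 : 2 ∣ Nat.card K) (x : K) (hx1 : x ≠ 1)
    (hl : ∃ k : ℕ, x ^ l ^ k = 1) (hfix : ∀ τ : F ≃+* F, Odd (orderOf τ) → φ τ x = x) (hiso : Iso l x) :
    UF l K := by
  intro A hA
  obtain ⟨g, hg⟩ := hco A hA
  obtain ⟨k, hk⟩ := hl
  refine ⟨g⁻¹ x, fun h => hx1 ((map_eq_one_iff (g⁻¹ : MulAut K) (g⁻¹ : MulAut K).injective).1 h),
    ⟨k, by rw [← map_pow, hk, map_one]⟩, fun a ha => ?_, iso_equiv (g⁻¹ : MulAut K) hiso⟩
  have key : a (g⁻¹ x) = g⁻¹ ((g * a * g⁻¹) x) := by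
    show a (g⁻¹ x) = g⁻¹ (g (a (g⁻¹ x)))
    rw [MulAut.inv_apply_self]
  rw [key]
  congr 1
  obtain ⟨τ, hτ⟩ := hg a ha
  -- `a` has odd order
  have hA0 : Nat.card A ≠ 0 := by
    intro h0
    rw [h0, Nat.coprime_zero_left] at hA
    rw [hA] at h2
    exact absurd (Nat.dvd_one.1 h2) (by norm_num)
  have hfinA : Finite A := Nat.finite_of_card_ne_zero hA0
  have hodd : Odd (orderOf (φ τ)) := by
    have h3 : orderOf (φ τ) = orderOf a := by
      rw [← hτ]
      exact orderOf_injective (MulAut.conj g).toMonoidHom (MulAut.conj g).injective a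
    have h4 : orderOf a ∣ Nat.card A := by
      have := orderOf_dvd_natCard (⟨a, ha⟩ : A)
      rwa [Subgroup.orderOf_mk] at this
    rw [h3]
    rw [← Nat.not_even_iff_odd]
    intro h5
    have h6 : 2 ∣ Nat.gcd (Nat.card A) (Nat.card K) := Nat.dvd_gcd (h5.two_dvd.trans h4) h2
    rw [hA] at h6
    exact absurd (Nat.dvd_one.1 h6) (by norm_num)
  have hfin : Finite (F ≃+* F) := Finite.of_injective (fun f : F ≃+* F => (f : F → F)) DFunLike.coe_injective
  obtain ⟨s, m, hm, hsm⟩ : ∃ s m : ℕ, ¬ 2 ∣ m ∧ orderOf τ = 2 ^ s * m :=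
    Nat.exists_eq_pow_mul_and_not_dvd (orderOf_pos τ).ne' 2 (by norm_num)
  have hcop : Nat.Coprime (orderOf (φ τ)) (2 ^ s) :=
    Nat.Coprime.pow_right s hodd.coprime_two_right
  obtain ⟨e, he1, he2⟩ : ∃ e : ℕ, e ≡ 1 [MOD orderOf (φ τ)] ∧ e ≡ 0 [MOD 2 ^ s] :=
    ⟨_, (Nat.chineseRemainder hcop 1 0).2.1, (Nat.chineseRemainder hcop 1 0).2.2⟩
  have h7 : φ (τ ^ e) = φ τ := by
    rw [map_pow]
    calc φ τ ^ e = φ τ ^ 1 := pow_eq_pow_iff_modEq.2 he1
      _ = φ τ := pow_one _
  have h8 : Odd (orderOf (τ ^ e)) := by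
    obtain ⟨c, rfl⟩ := (Nat.modEq_zero_iff_dvd).1 he2
    have h9 : orderOf (τ ^ (2 ^ s * c)) ∣ m := by
      apply orderOf_dvd_of_pow_eq_one
      rw [← pow_mul, show 2 ^ s * c * m = orderOf τ * c by rw [hsm]; ring, pow_mul, pow_orderOf_eq_one, one_pow]
    have hmo : Odd m := by
      rw [← Nat.not_even_iff_odd]
      exact fun h => hm h.two_dvd
    exact Odd.of_dvd_nat hmo h9
  show (g * a * g⁻¹) x = x
  rw [hτ, ← h7]
  exact hfix _ h8

/-! ### Block matrices -/

section blk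

open Cfsg.Agent.KFacts.MulOdd.TypeA

variable {F : Type*} [Field F] {ι : Type} [Fintype ι] [DecidableEq ι] {a b : ι}

omit [Fintype ι] in
theorem NN_up (hab : a ≠ b) (t : F) : NN a b (up t).1 = 1 + Matrix.single a b t := by
  ext u w
  have h0 : (up t).1 = !![(1 : F), t; 0, 1] := rfl
  rw [h0]
  unfold NN
  by_cases hu : u = a
  · subst hu
    by_cases hv : w = u
    · subst hv; simp [hab.symm]
    · by_cases hv' : w = b
      · subst hv'; simp [hab, hv]
      · simp [hv, hv', Ne.symm hv, Ne.symm hv']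
  · by_cases hu' : u = b
    · subst hu'
      by_cases hv : w = a
      · subst hv; simp [hab.symm]
      · by_cases hv' : w = u
        · subst hv'; simp [hab, hab.symm]
        · simp [hab.symm, hv, hv', Ne.symm hv']
    · simp [hu, hu', Ne.symm hu, Matrix.one_apply]

theorem sq_NN_up (hab : a ≠ b) (t : F) : (NN a b (up t).1 - 1) ^ 2 = 0 := by
  rw [NN_up hab, add_sub_cancel_left, pow_two]
  exact Matrix.single_mul_single_of_ne _ _ _ _ hab.symm _

end blk

section psl

open Cfsg.Agent.ClassicalGeometry.AutPSL.Auto Cfsg.Agent.ClassicalGeometry.AutPSL.Main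
open Cfsg.Agent.ClassicalGeometry.AutPSL.Root
open Cfsg.Agent.KFacts.MulOdd.TypeA Cfsg.Agent.H531.RMPsl

variable {F : Type v} [Field F] {n : ℕ}

theorem psl {l : ℕ} [hl : Fact l.Prime] (hl2 : l ≠ 2) [Fintype F] [CharP F l] (hn : 2 ≤ n)
    (h4 : n = 2 → 4 ≤ Fintype.card F)
    [Finite (Matrix.ProjectiveSpecialLinearGroup (Fin n) F)]
    [IsSimpleGroup (Matrix.ProjectiveSpecialLinearGroup (Fin n) F)]
    (hna : ¬ IsMulCommutative (Matrix.ProjectiveSpecialLinearGroup (Fin n) F))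
    (h2 : 2 ∣ Nat.card (Matrix.ProjectiveSpecialLinearGroup (Fin n) F)) :
    UF l (Matrix.ProjectiveSpecialLinearGroup (Fin n) F) := by
  obtain ⟨ρ, hρ, -⟩ := H254.exists_ringAut F
  have hco := H254.PSL.copIn hn h4 hna h2 ρ hρ
  have hab : (⟨0, by omega⟩ : Fin n) ≠ ⟨1, by omega⟩ := by
    intro h
    have := congrArg Fin.val h
    simp at this
  have hfin : Finite (Matrix.SpecialLinearGroup (Fin n) F) := inferInstance
  obtain ⟨h5, h6⟩ := iso_of_mat hl2 (G := Matrix.SpecialLinearGroup (Fin n) F) (ι := Fin n)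
    ({ toFun := fun g => g.1, map_one' := rfl, map_mul' := fun _ _ => rfl } :
      Matrix.SpecialLinearGroup (Fin n) F →* Matrix (Fin n) (Fin n) F) Subtype.val_injective
    (t := blk hab (up 1)) (sq_NN_up hab 1)
  refine uf_of_fix ((lift).comp fld) (FieldConjS.of_copIn (ρ := ρ) _ hco) h2
    (QuotientGroup.mk' _ (blk hab (up 1))) ?_ ⟨1, ?_⟩ ?_ ?_
  · intro ht
    have h1 : blk hab (up 1) ∈ Subgroup.center (Matrix.SpecialLinearGroup (Fin n) F) :=
      (QuotientGroup.eq_one_iff _).1 ht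
    rw [Matrix.SpecialLinearGroup.mem_center_iff] at h1
    obtain ⟨r, -, hr⟩ := h1
    have h3 := congrFun (congrFun hr ⟨0, by omega⟩) ⟨1, by omega⟩
    have h4 : (blk hab (up (1 : F))).1 ⟨0, by omega⟩ ⟨1, by omega⟩ = 1 := by
      show NN (⟨0, by omega⟩ : Fin n) ⟨1, by omega⟩ (up (1 : F)).1 ⟨0, by omega⟩ ⟨1, by omega⟩ = 1
      simp [NN, up]
    rw [h4] at h3
    simp at h3
  · rw [pow_one, ← map_pow, h5, map_one]
  · intro τ _
    show lift (fld τ) (pr (blk hab (up 1))) = pr (blk hab (up 1))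
    rw [lift_pr]
    congr 1
    show Matrix.SpecialLinearGroup.map (τ : F →+* F) (blk hab (up 1)) = _
    rw [map_blk, map_up, map_one]
  · refine iso_map _ (QuotientGroup.mk'_surjective _) ?_ h6
    rw [QuotientGroup.ker_mk']

end psl

section psp

open Cfsg
open Cfsg.Agent.KFacts.MulOdd.TypeA
open Cfsg.Agent.ClassicalGeometry.SympBasic Cfsg.Agent.ClassicalGeometry.SympAutSemi
  Cfsg.Agent.ClassicalGeometry.SympGamma Cfsg.Agent.H531.RMPsp
open scoped Matrix

variable {F : Type v} [Field F] {m : ℕ}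

theorem psp {l : ℕ} [hl : Fact l.Prime] (hl2 : l ≠ 2) [Fintype F] [CharP F l] (hm : 2 ≤ m)
    (h3 : m = 2 → 3 ≤ Fintype.card F) [Finite (PSp m F)]
    [IsSimpleGroup (PSp m F)] (hna : ¬ IsMulCommutative (PSp m F)) (h2 : 2 ∣ Nat.card (PSp m F)) :
    UF l (PSp m F) := by
  obtain ⟨ρ, hρ, -⟩ := H254.exists_ringAut F
  have hco := H254.PSP.copIn hm h3 hna h2 ρ hρ
  let i₀ : Fin m := ⟨0, by omega⟩
  have hab : (Sum.inl i₀ : Fin m ⊕ Fin m) ≠ Sum.inr i₀ := Sum.inl_ne_inr
  have hfin : Finite (Matrix.symplecticGroup (Fin m) F) := inferInstance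
  obtain ⟨h5, h6⟩ := iso_of_mat hl2 (G := Matrix.symplecticGroup (Fin m) F)
    ({ toFun := fun g => g.1, map_one' := rfl, map_mul' := fun _ _ => rfl } :
      Matrix.symplecticGroup (Fin m) F →* Matrix (Fin m ⊕ Fin m) (Fin m ⊕ Fin m) F) Subtype.val_injective
    (t := emb i₀ (up 1)) (sq_NN_up hab 1)
  refine uf_of_fix (H254.PSP.fld m) (FieldConjS.of_copIn (ρ := ρ) _ hco) h2
    (QuotientGroup.mk' _ (emb i₀ (up 1))) ?_ ⟨1, ?_⟩ ?_ ?_
  · intro ht
    have h1 : emb i₀ (up 1) ∈ Subgroup.center (Matrix.symplecticGroup (Fin m) F) :=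
      (QuotientGroup.eq_one_iff _).1 ht
    have h4 := Subgroup.mem_center_iff.1 h1 (emb i₀ (lo 1))
    rw [← map_mul, ← map_mul] at h4
    have h5 : NN (Sum.inl i₀) (Sum.inr i₀) (lo 1 * up 1 : Matrix.SpecialLinearGroup (Fin 2) F).1 =
        NN (Sum.inl i₀) (Sum.inr i₀) (up 1 * lo 1 : Matrix.SpecialLinearGroup (Fin 2) F).1 :=
      congrArg Subtype.val h4
    have h6 := congrFun (congrFun h5 (Sum.inl i₀)) (Sum.inl i₀)
    have h7 : (lo 1 * up 1 : Matrix.SpecialLinearGroup (Fin 2) F).1 0 0 = 1 := by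
      show (!![(1 : F), 0; 1, 1] * !![(1 : F), 1; 0, 1]) 0 0 = 1
      simp [Matrix.mul_apply, Fin.sum_univ_two]
    have h8 : (up 1 * lo 1 : Matrix.SpecialLinearGroup (Fin 2) F).1 0 0 = 1 + 1 := by
      show (!![(1 : F), 1; 0, 1] * !![(1 : F), 0; 1, 1]) 0 0 = 1 + 1
      simp [Matrix.mul_apply, Fin.sum_univ_two]
    simp only [NN, if_true] at h6
    rw [h7, h8] at h6
    exact one_ne_zero (left_eq_add.1 h6)
  · rw [pow_one, ← map_pow, h5, map_one]
  · intro τ _
    show Psi m F (H254.PSP.frobSS m τ) (QuotientGroup.mk (emb i₀ (up 1))) =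
      QuotientGroup.mk (emb i₀ (up 1))
    rw [Psi_mk, conjHom_emb, map_up, map_one]
  · refine iso_map _ (QuotientGroup.mk'_surjective _) ?_ h6
    rw [QuotientGroup.ker_mk']

end psp

section psu

open Cfsg
open Cfsg.Agent.LieClassical.HermBasic Cfsg.Agent.LieClassical.HermSiegel
  Cfsg.Agent.LieClassical.HermGen
  Cfsg.Agent.ClassicalGeometry.UnitAutBasic Cfsg.Agent.ClassicalGeometry.PSUAutCount
open scoped Matrix

variable {F : Type v} [Field F] {n q : ℕ}

/-- Field automorphisms of odd order fix the `2`-power roots of unity. -/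
theorem fix_two_power {F : Type*} [Field F] (h2 : (2 : F) ≠ 0) (τ : F ≃+* F) (hτ : Odd (orderOf τ)) :
    ∀ (s : ℕ) (z : F), z ^ 2 ^ s = 1 → τ z = z := by
  intro s
  induction s with
  | zero =>
    intro z hz
    rw [pow_zero, pow_one] at hz
    rw [hz, map_one]
  | succ s ih =>
    intro z hz
    have h3 : τ (z ^ 2) = z ^ 2 := ih _ (by rw [← pow_mul, ← pow_succ']; exact hz)
    rw [map_pow] at h3
    rcases sq_eq_sq_iff_eq_or_eq_neg.1 h3 with h | h
    · exact h
    · exfalso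
      have h4 : ∀ k : ℕ, (τ ^ k) z = (-1) ^ k * z := by
        intro k
        induction k with
        | zero => simp
        | succ k ih =>
          rw [pow_succ]
          show (τ ^ k) (τ z) = _
          rw [h, map_neg, ih, pow_succ]
          ring
      have h5 := h4 (orderOf τ)
      rw [pow_orderOf_eq_one, hτ.neg_one_pow] at h5
      have h6 : (2 : F) * z = 0 := by
        have h7 : (1 : F ≃+* F) z = z := rfl
        rw [h7] at h5
        linear_combination h5
      rcases mul_eq_zero.1 h6 with h7 | h7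
      · exact h2 h7
      · rw [h7, zero_pow (by positivity)] at hz
        exact zero_ne_one hz

/-- A `2`-element `c` with `c ^ q = -c` is fixed by the field automorphisms of odd order. -/
theorem exists_trace_zero [Fintype F] (hF : Fintype.card F = q ^ 2) (h2 : (2 : F) ≠ 0) :
    ∃ c : F, c ≠ 0 ∧ c + c ^ q = 0 ∧ ∀ τ : F ≃+* F, Odd (orderOf τ) → τ c = c := by
  obtain ⟨c₀, hc0, hc1⟩ := exists_trace_zero_ne hF
  obtain ⟨s, m, hm, hsm⟩ : ∃ s m : ℕ, ¬ 2 ∣ m ∧ orderOf (Units.mk0 c₀ hc0) = 2 ^ s * m :=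
    Nat.exists_eq_pow_mul_and_not_dvd (orderOf_pos _).ne' 2 (by norm_num)
  have hmo : Odd m := by
    rw [← Nat.not_even_iff_odd]
    exact fun h => hm h.two_dvd
  have hc2 : c₀ ^ q = -c₀ := by
    rw [eq_neg_iff_add_eq_zero, add_comm]; exact hc1
  refine ⟨c₀ ^ m, pow_ne_zero _ hc0, ?_, fun τ hτ => fix_two_power h2 τ hτ s _ ?_⟩
  · rw [← pow_mul, mul_comm, pow_mul, hc2, hmo.neg_pow]
    ring
  · have h3 : (Units.mk0 c₀ hc0 ^ m) ^ 2 ^ s = 1 := by
      rw [← pow_mul, mul_comm, ← hsm, pow_orderOf_eq_one]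
    exact congrArg Units.val h3

theorem semiConj_siegel [Fintype F] (hF : Fintype.card F = q ^ 2) {x : Fin n → F} {c : F}
    (h : IsSiegel q x 0 c) (τ : F ≃+* F) (hx : ∀ i, τ (x i) = x i) (hc : τ c = c) :
    semiConj (1 : GU n F q) τ (siegel hF x 0 c h) = siegel hF x 0 c h := by
  apply ext_act
  intro y'
  obtain ⟨y, rfl⟩ : ∃ y : Fin n → F, y' = fun i => τ (y i) := ⟨fun i => τ.symm (y' i), by
    funext i
    rw [RingEquiv.apply_symm_apply]⟩
  rw [Schreier.PSU.act_semiConj_field, act_siegel, act_siegel]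
  have h1 : hermForm n F q (fun i => τ (y i)) x = τ (hermForm n F q y x) := by
    have h2 : x = fun i => τ (x i) := funext fun i => (hx i).symm
    conv_lhs => rw [h2]
    exact herm_map τ y x
  rw [h1]
  funext i
  simp only [smul_zero, add_zero, Pi.add_apply, Pi.smul_apply, smul_eq_mul, map_add, map_mul, hc, hx,
    herm_zero_right hF, sub_zero]

section vec

/-- the vector `(s, t, e, 0, …)` -/
def vec (n : ℕ) (s t e : F) : Fin n → F := fun i =>
  if (i : ℕ) = 0 then s else if (i : ℕ) = 1 then t else if (i : ℕ) = 2 then e else 0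

theorem map_vec (τ : F ≃+* F) {s t e : F} (hs : τ s = s) (ht : τ t = t) (he : τ e = e) (i : Fin n) :
    τ (vec n s t e i) = vec n s t e i := by
  unfold vec
  split_ifs <;> simp [hs, ht, he]

theorem herm_vec (hn : 3 ≤ n) (s t e s' t' e' : F) :
    hermForm n F q (vec n s t e) (vec n s' t' e') = s * s' ^ q + t * t' ^ q + e * e' ^ q := by
  rw [herm_def]
  obtain ⟨n', rfl⟩ : ∃ n', n = n' + 3 := ⟨n - 3, by omega⟩
  rw [Fin.sum_univ_succ, Fin.sum_univ_succ, Fin.sum_univ_succ]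
  have h4 : ∀ (s t e : F) (i : Fin n'), vec (n' + 3) s t e (Fin.succ (Fin.succ (Fin.succ i))) = 0 :=
    fun s t e i => by simp [vec]
  have h5 : ∀ s t e : F, vec (n' + 3) s t e 0 = s := fun s t e => by simp [vec]
  have h6 : ∀ s t e : F, vec (n' + 3) s t e (Fin.succ 0) = t := fun s t e => by simp [vec]
  have h7 : ∀ s t e : F, vec (n' + 3) s t e (Fin.succ (Fin.succ 0)) = e := fun s t e => by
    have h8 : ((Fin.succ (Fin.succ (0 : Fin (n' + 1))) : Fin (n' + 3)) : ℕ) = 2 := rfl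
    unfold vec
    rw [h8]
    norm_num
  simp only [h4, h5, h6, h7, zero_mul, Finset.sum_const_zero, add_zero]
  ring

theorem vec_two (hn : 3 ≤ n) (s t e : F) : vec n s t e ⟨2, by omega⟩ = e := by simp [vec]

end vec

theorem psu {l : ℕ} [hl : Fact l.Prime] (hl2 : l ≠ 2) [Fintype F] [CharP F l] (hF : Fintype.card F = q ^ 2)
    (hn : 3 ≤ n) (h32 : ¬ (n = 3 ∧ q = 2))
    [Finite (PSU n F q)] [IsSimpleGroup (PSU n F q)] (hna : ¬ IsMulCommutative (PSU n F q))
    (h2 : 2 ∣ Nat.card (PSU n F q)) : UF l (PSU n F q) := by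
  obtain ⟨ρ, hρ, -⟩ := H254.exists_ringAut F
  have hco := H254.PSUn.copIn hF hn h32 hna ρ hρ
  have h20 : (2 : F) ≠ 0 := by
    intro h
    have h3 : l ∣ 2 := (CharP.cast_eq_zero_iff F l 2).1 (by exact_mod_cast h)
    exact hl2 ((Nat.prime_dvd_prime_iff_eq hl.out Nat.prime_two).1 h3)
  obtain ⟨c, hc0, hc1, hc⟩ := exists_trace_zero hF h20
  -- an isotropic vector over the prime field
  obtain ⟨a, b, hab⟩ := ZMod.sq_add_sq l (-1)
  let ι : ZMod l →+* F := ZMod.castHom (dvd_refl l) F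
  have hι : ∀ (τ : F ≃+* F) (z : ZMod l), τ (ι z) = ι z := fun τ z => by
    have h3 : (τ : F →+* F).comp ι = ι := Subsingleton.elim _ _
    exact congrArg (fun f : ZMod l →+* F => f z) h3
  have hιq : ∀ z : ZMod l, (ι z) ^ q = ι z := fun z => by
    rw [← conj_apply hF]
    exact hι _ z
  have h8 : ι a ^ 2 + ι b ^ 2 = -1 := by rw [← map_pow, ← map_pow, ← map_add, hab, map_neg, map_one]
  have h9 : (-1 : F) ^ q = -1 := by
    have := hιq (-1)
    rwa [map_neg, map_one] at this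
  set x : Fin n → F := vec n (ι a) (ι b) 1 with hx
  set y : Fin n → F := vec n (ι a) (ι b) (-1) with hy
  have hxx : hermForm n F q x x = 0 := by
    rw [hx, herm_vec hn, hιq, hιq, one_pow]
    linear_combination h8
  have hyy : hermForm n F q y y = 0 := by
    rw [hy, herm_vec hn, hιq, hιq, h9]
    linear_combination h8
  have hxy : hermForm n F q x y = -2 := by
    rw [hx, hy, herm_vec hn, hιq, hιq, h9]
    linear_combination h8
  have hyx : hermForm n F q y x = -2 := by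
    rw [hx, hy, herm_vec hn, hιq, hιq, one_pow]
    linear_combination h8
  have hsg : IsSiegel q x 0 c := ⟨hxx, herm_zero_left x, by rw [herm_zero_left, add_zero]; exact hc1⟩
  have hsy : IsSiegel q y 0 c := ⟨hyy, herm_zero_left y, by rw [herm_zero_left, add_zero]; exact hc1⟩
  have hfin : Finite (SU n F q) := inferInstance
  -- the matrix of the transvection
  have hsq : (siegelMat q x 0 c - 1) ^ 2 = 0 := by
    rw [pow_two]
    apply Matrix.ext_of_mulVec_single
    intro i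
    have key : ∀ v : Fin n → F, (siegelMat q x 0 c - 1) *ᵥ v = (c * hermForm n F q v x) • x := by
      intro v
      rw [Matrix.sub_mulVec, siegelMat_mulVec, Matrix.one_mulVec, smul_zero, add_zero, herm_zero_right hF, sub_zero]
      abel
    rw [Matrix.zero_mulVec, ← Matrix.mulVec_mulVec, key, key, herm_smul_left, hxx, mul_zero, mul_zero, zero_smul]
  obtain ⟨h5, h6⟩ := iso_of_mat hl2 (G := SU n F q) (ι := Fin n)
    ({ toFun := fun g => mat g, map_one' := rfl, map_mul' := fun _ _ => rfl } :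
      SU n F q →* Matrix (Fin n) (Fin n) F) mat_injective
    (t := siegel hF x 0 c hsg) hsq
  refine uf_of_fix (H254.PSUn.fld n q) (FieldConjS.of_copIn (ρ := ρ) _ hco) h2
    (pr n F q (siegel hF x 0 c hsg)) ?_ ⟨1, ?_⟩ ?_ ?_
  · intro hu
    have h1 : siegel hF x 0 c hsg ∈ Subgroup.center (SU n F q) := (QuotientGroup.eq_one_iff _).1 hu
    have h3 := congrArg (fun g => act g y) (Subgroup.mem_center_iff.1 h1 (siegel hF y 0 c hsy))
    simp only [act_mul] at h3
    rw [act_siegel_self hF hsy, act_siegel, act_siegel, herm_zero_right hF] at h3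
    simp only [smul_zero, add_zero, sub_zero, herm_add_left, herm_smul_left, hyy, hyx, hxy,
      herm_zero_right hF] at h3
    have h4 := congrFun h3 ⟨2, by omega⟩
    simp only [Pi.add_apply, Pi.smul_apply, smul_eq_mul, hy, hx, vec_two hn] at h4
    have h10 : c * (c * (2 * 2)) = 0 := by linear_combination -h4
    rcases mul_eq_zero.1 h10 with h | h
    · exact hc0 h
    · rcases mul_eq_zero.1 h with h | h
      · exact hc0 h
      · exact h20 (by simpa using h)
  · rw [pow_one, ← map_pow, h5, map_one]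
  · intro τ hτ
    rw [H254.PSUn.fld_apply]
    show toAut (1 : GU n F q) τ (pr n F q _) = pr n F q _
    rw [toAut_pr, semiConj_siegel hF hsg τ (map_vec τ (hι τ a) (hι τ b) (map_one τ)) (hc τ hτ)]
  · refine iso_map (pr n F q) ?_ ?_ h6
    · exact QuotientGroup.mk'_surjective _
    · show (QuotientGroup.mk' _).ker ≤ _
      rw [QuotientGroup.ker_mk']

end psu

end Cfsg.Agent.H26.UFLin
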