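import Cfsg.Agent.H26.UFLin
import Cfsg.Agent.H531.FMOrth

/-!
# `UF` for the orthogonal groups (helper26, for S1930)
-/

set_option autoImplicit false
set_option linter.unusedSectionVars false

namespace Cfsg.Agent.H26.UFOrth

open QuadraticMap Cfsg Cfsg.Agent.LieClassical.OrthCore Cfsg.Agent.LieClassical.OrthTrans
open Cfsg.Agent.ClassicalGeometry.OrthSemi Cfsg.Agent.ClassicalGeometry.OrthSemiCount
open Cfsg.Agent.ClassicalGeometry.OrthSemiForms Cfsg.Agent.LieClassical.OrthSimple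
  Cfsg.Agent.LieClassical.OrthForms
open Cfsg.Agent.H254 Cfsg.Agent.H254.Orth Cfsg.Agent.H531 Cfsg.Agent.Schreier.Basic Cfsg.Agent.H522.RealOrth
open Cfsg.Agent.ClassicalGeometry.OrthAut1 (P)
open Cfsg.Agent.UGT.U2.FOne.Orth (Four)
open Matrix (SpecialLinearGroup)
open Cfsg.Agent.H25.UFDef Cfsg.Agent.H26.UFix Cfsg.Agent.H26.UFLin Cfsg.Agent.ChevalleyStructure.SL2Hom

theorem uf_of_copIn {l : ℕ} {K : Type*} [Group K] {σ : MulAut K} (h : CopIn K σ) (x : K) (hx1 : x ≠ 1)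
    (hl : ∃ k : ℕ, x ^ l ^ k = 1) (hfix : σ x = x) (hiso : Iso l x) : UF l K := by
  intro A hA
  obtain ⟨g, hg⟩ := h A hA
  obtain ⟨k, hk⟩ := hl
  refine ⟨g⁻¹ x, fun h => hx1 ((map_eq_one_iff (g⁻¹ : MulAut K) (g⁻¹ : MulAut K).injective).1 h),
    ⟨k, by rw [← map_pow, hk, map_one]⟩, fun a ha => ?_, iso_equiv (g⁻¹ : MulAut K) hiso⟩
  have key : a (g⁻¹ x) = g⁻¹ ((g * a * g⁻¹) x) := by
    show a (g⁻¹ x) = g⁻¹ (g (a (g⁻¹ x)))
    rw [MulAut.inv_apply_self]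
  rw [key]
  congr 1
  have h1 : MulAut.conj g a ∈ Subgroup.zpowers σ := hg ⟨a, ha, rfl⟩
  have h2 : Subgroup.zpowers σ ≤ MulAction.stabilizer (MulAut K) x := by
    rw [Subgroup.zpowers_le]
    exact hfix
  exact h2 h1

section fam

variable {F : Type*} [Field F] [Finite F] {ι : Type} [Fintype ι] [DecidableEq ι] {Q : QuadraticForm F (ι → F)}
  {e₁ f₁ e₂ f₂ : ι → F}

theorem phi_up (h : Four Q e₁ f₁ e₂ f₂) (v : ι → F) :
    h.phi (up 1) v - v = polar Q f₂ v • e₁ - polar Q e₁ v • f₂ := by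
  unfold Four.phi
  have h00 : (up (1 : F)).1 0 0 = 1 := rfl
  have h01 : (up (1 : F)).1 0 1 = 1 := rfl
  have h10 : (up (1 : F)).1 1 0 = 0 := rfl
  have h11 : (up (1 : F)).1 1 1 = 1 := rfl
  rw [h00, h01, h10, h11]
  module

theorem sq_up (h : Four Q e₁ f₁ e₂ f₂) :
    (((h.rho (up 1) : (ι → F) ≃ₗ[F] (ι → F)) : Module.End F (ι → F)) - 1) ^ 2 = 0 := by
  apply LinearMap.ext
  intro v
  obtain ⟨p1, p2, p3, p4, p5, p6, p7, p8⟩ := h.pols
  have key : ∀ w : ι → F, (((h.rho (up 1) : (ι → F) ≃ₗ[F] (ι → F)) : Module.End F (ι → F)) - 1) w =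
      polar Q f₂ w • e₁ - polar Q e₁ w • f₂ := fun w => phi_up h w
  rw [pow_two, Module.End.mul_apply, key, key]
  have h1 : polar Q f₂ e₁ = 0 := by rw [polar_comm]; exact h.ef
  simp only [polar_sub_right, polar_smul_right, h1, h.ef, p1, p4, smul_zero, sub_zero, zero_smul,
    LinearMap.zero_apply]

/-- **The criterion.** -/
theorem crit {l : ℕ} [hl : Fact l.Prime] (hl2 : l ≠ 2) [CharP F l] (hG : Good Q) (h : Four Q e₁ f₁ e₂ f₂)
    {σ : F ≃+* F} {M : Equiv.Perm (ι → F)} (hM : Fx Q e₁ f₁ e₂ f₂ σ M)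
    (hco : CopIn (POmega F ⇑Q) (ind hG hM.gam)) : UF l (POmega F ⇑Q) := by
  have hfinL : Finite ((ι → F) ≃ₗ[F] (ι → F)) :=
    Finite.of_injective (fun f : (ι → F) ≃ₗ[F] (ι → F) => (f : (ι → F) → (ι → F))) DFunLike.coe_injective
  have hfinE : Finite ↥(E Q) := inferInstance
  obtain ⟨h5, h6⟩ := iso_of_quad hl2 (G := ↥(E Q)) (V := ι → F)
    ({ toFun := fun g => ((g : (ι → F) ≃ₗ[F] (ι → F)) : Module.End F (ι → F)), map_one' := rfl,
        map_mul' := fun _ _ => rfl } : ↥(E Q) →* Module.End F (ι → F))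
    (fun a b hab => Subtype.ext (LinearEquiv.toLinearMap_injective hab))
    (t := h.rhoE (up 1)) (sq_up h)
  refine uf_of_copIn hco (jj hG h (up 1)) ?_ ⟨1, ?_⟩ ?_ ?_
  · intro h1
    have h2 := jj_injective hG h (h1.trans (map_one _).symm)
    have h3 := congrFun (congrFun (congrArg Subtype.val h2) 0) 1
    have h4 : (1 : F) = 0 := h3
    exact one_ne_zero h4
  · rw [pow_one]
    have h7 : jj hG h (up 1) = (pomegaEquiv hG).symm (QuotientGroup.mk' _ (h.rhoE (up 1))) := rfl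
    rw [h7, ← map_pow, ← map_pow, h5, map_one, map_one]
  · rw [ind_jj, map_up, map_one]
  · refine iso_equiv (pomegaEquiv hG).symm (iso_map (QuotientGroup.mk' _) (QuotientGroup.mk'_surjective _) ?_ h6)
    rw [QuotientGroup.ker_mk']

end fam

/-- The criterion with all the numerical data. -/
theorem uf_of {l : ℕ} [hl : Fact l.Prime] (hl2 : l ≠ 2) {F : Type*} [Field F] [Finite F] [CharP F l] {ι : Type}
    [Fintype ι] [DecidableEq ι]
    {Q : QuadraticForm F (ι → F)} {e₁ f₁ e₂ f₂ : ι → F} {q : (ι → F) → F} (hq : ⇑Q = q) [Finite (POmega F q)]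
    [IsSimpleGroup (POmega F q)] (hna : ¬ IsMulCommutative (POmega F q))
    (hs : Sch (POmega F q)) (hG : Good Q) (h : Four Q e₁ f₁ e₂ f₂) {σ : F ≃+* F} {M : Equiv.Perm (ι → F)}
    (hM : Fx Q e₁ f₁ e₂ f₂ σ M) (c f : ℕ) (hc0 : c ≠ 0) (hc : ∀ r : ℕ, r.Prime → r ∣ c → r ∣ Nat.card (POmega F q))
    (hf : f ∣ orderOf σ) (hcard : Nat.card (MulAut (POmega F q)) ∣ c * f * Nat.card (POmega F q)) :
    UF l (POmega F q) := by
  subst hq
  exact crit hl2 hG h hM (CopIn.of_card hna hs _ c hc0 hc (hcard.trans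
    (Nat.mul_dvd_mul_right (Nat.mul_dvd_mul_left _ (hf.trans (orderOf_ind hG hM.ss))) _)))

variable {F : Type*} [Field F] [Fintype F] {m : ℕ} {l : ℕ} [hl : Fact l.Prime] [CharP F l]

theorem odd (hl2 : l ≠ 2) (hm : 3 ≤ m) (hodd : Odd (Fintype.card F)) [Finite (Cfsg.POmega F (Cfsg.quadFormOdd m F))]
    [IsSimpleGroup (Cfsg.POmega F (Cfsg.quadFormOdd m F))]
    (hna : ¬ IsMulCommutative (Cfsg.POmega F (Cfsg.quadFormOdd m F)))
    (h2 : 2 ∣ Nat.card (Cfsg.POmega F (Cfsg.quadFormOdd m F))) :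
    UF l (Cfsg.POmega F (Cfsg.quadFormOdd m F)) := by
  obtain ⟨f, hp, hf⟩ := FiniteField.card F l
  have hpodd : Odd l := by
    rw [hf] at hodd
    exact (Nat.odd_pow_iff f.pos.ne').1 hodd
  have h20 : (2 : F) ≠ 0 := Cfsg.Agent.LieClassical.PomegaCard.odd_card_iff.1 hodd
  have hcard := S0816.result l f f.pos hf hpodd m hm
  have hf' : Nat.card (F ≃+* F) = f := Lib.FieldAutCard.card_ringAut f.pos hf
  obtain ⟨ρ, hρ, -⟩ := exists_ringAut F
  obtain ⟨M, e₁, f₁, e₂, f₂, h4, hM⟩ := odd_fx h20 (m := m) (by omega) ρ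
  refine uf_of hl2 (coe_oddForm m F) hna (Schreier.ClassPOmega.sch_odd hm h20)
    (good_odd (F := F) (m := m) (by omega) h20) h4 hM 2 f two_ne_zero ?_ (by rw [hρ, hf']) ?_
  · intro r hr hd
    rw [(Nat.prime_dvd_prime_iff_eq hr Nat.prime_two).1 hd]; exact h2
  · rw [hcard]

theorem plus (hl2 : l ≠ 2) (hm : 4 ≤ m) [Finite (Cfsg.POmega F (Cfsg.quadFormPlus m F))]
    [IsSimpleGroup (Cfsg.POmega F (Cfsg.quadFormPlus m F))]
    (hna : ¬ IsMulCommutative (Cfsg.POmega F (Cfsg.quadFormPlus m F)))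
    (h2 : 2 ∣ Nat.card (Cfsg.POmega F (Cfsg.quadFormPlus m F))) :
    UF l (Cfsg.POmega F (Cfsg.quadFormPlus m F)) := by
  obtain ⟨f, hp, hf⟩ := FiniteField.card F l
  have hcard := S0817.result l f f.pos hf m hm
  have hf' : Nat.card (F ≃+* F) = f := Lib.FieldAutCard.card_ringAut f.pos hf
  obtain ⟨ρ, hρ, -⟩ := exists_ringAut F
  obtain ⟨M, e₁, f₁, e₂, f₂, h4, hM⟩ := plus_fx (F := F) (m := m) (by omega) ρ
  refine uf_of hl2 (coe_plusForm m F) hna (Schreier.ClassPOmega.sch_plus hm)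
    (good_plus (F := F) (m := m) (by omega)) h4 hM (3 * 8) f (by norm_num) ?_ (by rw [hρ, hf']) ?_
  · intro r hr hd
    rcases (hr.dvd_mul).1 hd with h | h
    · rw [(Nat.prime_dvd_prime_iff_eq hr Nat.prime_three).1 h]; exact three_dvd_plus hm
    · have h4 : r ∣ 2 ^ 3 := h
      rw [(Nat.prime_dvd_prime_iff_eq hr Nat.prime_two).1 (hr.dvd_of_dvd_pow h4)]; exact h2
  · rw [hcard]
    have h6 : (if m = 4 then 3 else 1) ∣ 3 := by
      split_ifs
      · exact dvd_rfl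
      · exact one_dvd _
    have h7 : (if l = 2 then 2 else (if Even (m * (l ^ (f : ℕ) - 1) / 2) then 8 else 4)) ∣ 8 := by
      split_ifs
      · exact ⟨4, by norm_num⟩
      · exact dvd_rfl
      · exact ⟨2, by norm_num⟩
    exact Nat.mul_dvd_mul_right (Nat.mul_dvd_mul (Nat.mul_dvd_mul h6 h7) dvd_rfl) _

theorem minus (hl2 : l ≠ 2) (hm : 4 ≤ m) (a b : F)
    (hab : ∀ z₁ z₂ : F, z₁ ^ 2 + a * z₁ * z₂ + b * z₂ ^ 2 = 0 → z₁ = 0 ∧ z₂ = 0)
    [Finite (Cfsg.POmega F (Cfsg.quadFormMinus (m - 1) F a b))]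
    [IsSimpleGroup (Cfsg.POmega F (Cfsg.quadFormMinus (m - 1) F a b))]
    (hna : ¬ IsMulCommutative (Cfsg.POmega F (Cfsg.quadFormMinus (m - 1) F a b)))
    (h2 : 2 ∣ Nat.card (Cfsg.POmega F (Cfsg.quadFormMinus (m - 1) F a b))) :
    UF l (Cfsg.POmega F (Cfsg.quadFormMinus (m - 1) F a b)) := by
  obtain ⟨f, hp, hf⟩ := FiniteField.card F l
  have hcard := S0818.result l f f.pos hf m hm a b hab
  have hf' : Nat.card (F ≃+* F) = f := Lib.FieldAutCard.card_ringAut f.pos hf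
  obtain ⟨ρ, hρ, -⟩ := exists_ringAut F
  obtain ⟨M, e₁, f₁, e₂, f₂, h4, hM⟩ := minus_fx (F := F) (m := m - 1) (by omega) a b hab ρ
  refine uf_of hl2 (coe_minusForm (m - 1) F a b) hna (Schreier.ClassPOmega.sch_minus hm a b hab)
    (good_minus (F := F) (m := m - 1) (by omega) a b hab) h4 hM 8 f (by norm_num) ?_ (by rw [hρ, hf']) ?_
  · intro r hr hd
    have h4 : r ∣ 2 ^ 3 := hd
    rw [(Nat.prime_dvd_prime_iff_eq hr Nat.prime_two).1 (hr.dvd_of_dvd_pow h4)]; exact h2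
  · rw [hcard]
    have h7 : (if l = 2 then 2 else (if Even (m * (l ^ (f : ℕ) - 1) / 2) then 4 else 8)) ∣ 8 := by
      split_ifs
      · exact ⟨4, by norm_num⟩
      · exact ⟨2, by norm_num⟩
      · exact dvd_rfl
    exact Nat.mul_dvd_mul_right (Nat.mul_dvd_mul h7 dvd_rfl) _

end Cfsg.Agent.H26.UFOrth
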