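import Cfsg.Agent.H26.UFOrth
import Cfsg.Agent.H26.UFChev
import Cfsg.Agent.Schreier.TwESix
import Cfsg.Prelude.Def_LieTypeChar

/-!
# `UF` for the simple groups of Lie type in odd characteristic (helper26, for S1930)

`uf` : in a simple group `K` of Lie type in odd characteristic `l` (not a Ree group `²G₂`), every group of automorphisms
of order prime to `|K|` fixes an `l`-element `u ≠ 1` which centralises every `p`-subgroup, `p ≠ 2, l`, normalised by `u`.
-/

set_option autoImplicit false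

namespace Cfsg.Agent.H26.UFRows

open Cfsg Cfsg.Agent.H25.UFDef Cfsg.Agent.H26.UFix

universe u v

/-- Transport from a model. -/
theorem of_model {l : ℕ} {M : Type v} [Group M]
    (h : Finite M → IsSimpleGroup M → ¬ IsMulCommutative M → 2 ∣ Nat.card M → UF l M)
    (K : Type u) [Group K] [Finite K] [IsSimpleGroup K] (hK : ¬ IsMulCommutative K) (h2 : 2 ∣ Nat.card K)
    (e : Nonempty (K ≃* M)) : UF l K := by
  obtain ⟨e⟩ := e
  have h1 : Finite M := Finite.of_equiv K e.toEquiv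
  have hsm : IsSimpleGroup M := e.symm.isSimpleGroup
  have hna : ¬ IsMulCommutative M := by
    intro hc
    apply hK
    refine ⟨⟨fun a b => e.injective ?_⟩⟩
    rw [map_mul, map_mul]
    exact hc.is_comm.comm _ _
  exact uf_of_equiv e.symm (h h1 hsm hna (by rw [← Nat.card_congr e.toEquiv]; exact h2))

/-- **`UF` for the simple groups of Lie type in odd characteristic.** -/
theorem uf {l : ℕ} (hl : l.Prime) (hl2 : l ≠ 2) {K : Type u} [Group K] [Finite K] [IsSimpleGroup K]
    (hna : ¬ IsMulCommutative K) (h2 : 2 ∣ Nat.card K) (hK : IsLieTypeChar l K)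
    (hree : ¬ (l = 3 ∧ Lie.IsoRee K)) : UF l K := by
  have hlf : Fact l.Prime := ⟨hl⟩
  rcases hK with hk | hk | hk | hk | hk | hk | hk | hk | hk | hk | hk
  · obtain ⟨F, _, _, _, n, hn, h4, e⟩ := hk
    exact of_model (fun _ _ h1 h2 => UFLin.psl hl2 hn h4 h1 h2) K hna h2 e
  · obtain ⟨F, _, _, _, m, hm, h3, e⟩ := hk
    exact of_model (fun _ _ h1 h2 => UFLin.psp hl2 hm h3 h1 h2) K hna h2 e
  · obtain ⟨F, _, _, _, n, q, hF, hn, h32, e⟩ := hk
    exact of_model (fun _ _ h1 h2 => UFLin.psu hl2 hF hn h32 h1 h2) K hna h2 e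
  · obtain ⟨F, _, _, _, m, hm, hodd, e⟩ := hk
    exact of_model (fun _ _ h1 h2 => UFOrth.odd hl2 hm hodd h1 h2) K hna h2 e
  · obtain ⟨F, _, _, _, m, hm, e⟩ := hk
    exact of_model (fun _ _ h1 h2 => UFOrth.plus hl2 hm h1 h2) K hna h2 e
  · obtain ⟨F, _, _, _, m, a, b, hm, hab, e⟩ := hk
    exact of_model (fun _ _ h1 h2 => UFOrth.minus hl2 hm a b hab h1 h2) K hna h2 e
  · obtain ⟨F, _, _, _, hk⟩ := hk
    rcases hk with ⟨h3, e⟩ | e | e | e | e
    · exact of_model (fun _ _ _ h2 => UFChev.chev hl2 UFChev.highG2 (H967.CopChev.row_g2 h3) h2) K hna h2 e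
    · exact of_model (fun _ _ _ h2 => UFChev.chev hl2 UFChev.highF4 H967.CopChev.row_f4 h2) K hna h2 e
    · exact of_model (fun _ _ _ h2 => UFChev.chev hl2 UFChev.highE6 H967.CopChev.row_e6 h2) K hna h2 e
    · exact of_model (fun _ _ _ h2 => UFChev.chev hl2 UFChev.highE7 H967.CopChev.row_e7 h2) K hna h2 e
    · exact of_model (fun _ _ _ h2 => UFChev.chev hl2 UFChev.highE8 H967.CopChev.row_e8 h2) K hna h2 e
  · obtain ⟨F, _, _, _, q, hq, hk⟩ := hk
    rcases hk with ⟨hF, e⟩ | ⟨hF, e⟩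
    · exact of_model (fun _ _ _ h2 => UFChev.tw2e6 hl2 hq hF (Schreier.TwESix.sch hq hF) h2) K hna h2 e
    · exact of_model (fun _ _ _ _ => UFChev.d4 hl2 hq hF) K hna h2 e
  · exact absurd hk.1 hl2
  · exact absurd hk.1 hl2
  · exact absurd hk hree

end Cfsg.Agent.H26.UFRows
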